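import Cfsg.Agent.Lib.Fusion.Layer.ProdNormal

/-!
The product of two commuting normal subsystems.
-/

set_option autoImplicit false
set_option linter.unusedSectionVars false
set_option linter.style.haveILetI false

namespace Cfsg.FusionSystem.Layer

universe u

variable {Ω : Type u} [Group Ω] {S T₁ T₂ T Z : Subgroup Ω} {F : FusionSystem S} {E₁ : FusionSystem T₁}
  {E₂ : FusionSystem T₂} {E : FusionSystem T} {p : ℕ} [Finite S] [Fact p.Prime]

/-- The central product of two commuting normal subsystems exists inside. -/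
theorem exists_normal_centralProduct (hS : IsPGroup p S) (hE₁ : E₁.IsNormalIn F p) (hE₂ : E₂.IsNormalIn F p)
    (hc : ∀ a ∈ T₁, ∀ b ∈ T₂, a * b = b * a) (hz₁ : T₁ ⊓ T₂ ≤ E₁.center) (hz₂ : T₁ ⊓ T₂ ≤ E₂.center) :
    ∃ D : FusionSystem (T₁ ⊔ T₂), D.IsNormalIn F p ∧ IsCentralProductOf E₁ E₂ D := by
  have h₁ := hE₁.1.2.2.2.1.1
  have h₂ := hE₂.1.2.2.2.1.1
  haveI := finite_of_le h₁
  haveI := finite_of_le h₂
  obtain ⟨D, hD, hDs⟩ := exists_centralProduct (hS.to_le h₁) (hS.to_le h₂) hE₁.1.1 hE₂.1.1 hc hz₁ hz₂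
  exact ⟨D, (isProd_of_centralProduct hD).isNormalIn hS hE₁ hE₂ hz₁ hz₂ hDs, hD⟩

/-- Any central product of two normal subsystems, central in both, is normal. -/
theorem normal_of_centralProduct {U : Subgroup Ω} {D : FusionSystem U} (hS : IsPGroup p S)
    (hE₁ : E₁.IsNormalIn F p) (hE₂ : E₂.IsNormalIn F p) (hz₁ : T₁ ⊓ T₂ ≤ E₁.center)
    (hz₂ : T₁ ⊓ T₂ ≤ E₂.center) (hD : IsCentralProductOf E₁ E₂ D) : D.IsNormalIn F p := by
  have h := isProd_of_centralProduct hD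
  obtain ⟨D', hD', hD'c⟩ := exists_normal_centralProduct hS hE₁ hE₂ h.comm hz₁ hz₂
  have h' := isProd_of_centralProduct hD'c
  exact eq_rec_of_subsystem (prop := fun {W} G => G.IsNormalIn F p) (h'.unique h) (h.unique h') hD'

/-- The largest normal subsystem over the same group centralising a normal subgroup in its centre. -/
theorem exists_centralising_normal (hS : IsPGroup p S) (hE : E.IsNormalIn F p) (hZ : F.IsNormal Z)
    (hTC : T ≤ centralizerIn S Z) (hZT : Z ≤ T) :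
    ∃ E' : FusionSystem T, E'.IsNormalIn F p ∧ Z ≤ E'.center := by
  have hp : Wedge.IsPair F p (F.centralizerSystem Z hZ.1) E :=
    ⟨hS, CoreCent.isNormalIn_centralizerSystem hS hE.1.2.1 hZ, hE⟩
  have key : ∀ {W : Subgroup Ω}, W = T → ∀ {M : FusionSystem W}, M.IsNormalIn F p →
      (∀ P, M.Hom P ⊆ F.centralizerHom Z P) → ∃ E' : FusionSystem T, E'.IsNormalIn F p ∧ Z ≤ E'.center := by
    rintro W rfl M hM hc
    exact ⟨M, hM, (isCentral_of_centralized hS hM.1.1 hM.1.2.2.2.1.1 hZT hc).le_center⟩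
  exact key (inf_eq_right.mpr hTC) hp.meet_normal fun P φ hφ => hp.meet_normal₁.1.2.2.1 P hφ

/-- Commuting normal subsystems have a normal product. -/
theorem exists_normal_product (hS : IsPGroup p S) (hE₁ : E₁.IsNormalIn F p) (hE₂ : E₂.IsNormalIn F p)
    (hc : ∀ a ∈ T₁, ∀ b ∈ T₂, a * b = b * a) :
    ∃ D : FusionSystem (T₁ ⊔ T₂), D.IsNormalIn F p ∧
      (T₁ ⊓ T₂ ≤ E₁.center → T₁ ⊓ T₂ ≤ E₂.center → IsCentralProductOf E₁ E₂ D) := by
  by_cases h : T₁ ⊓ T₂ ≤ E₁.center ∧ T₁ ⊓ T₂ ≤ E₂.center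
  · obtain ⟨D, hD, hDc⟩ := exists_normal_centralProduct hS hE₁ hE₂ hc h.1 h.2
    exact ⟨D, hD, fun _ _ => hDc⟩
  have h₁ := hE₁.1.2.2.2.1
  have h₂ := hE₂.1.2.2.2.1
  have hZ : F.StronglyClosed (T₁ ⊓ T₂) := ⟨inf_le_left.trans h₁.1, fun R hR ψ hψ z =>
    ⟨h₁.2 R (hR.trans inf_le_left) ψ hψ z, h₂.2 R (hR.trans inf_le_right) ψ hψ z⟩⟩
  have hZn : F.IsNormal (T₁ ⊓ T₂) := isNormal_of_abelian hS hE₁.1.2.1 hZ (by
    rw [Subgroup.commutator_eq_bot_iff_le_centralizer]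
    exact fun x hx => Subgroup.mem_centralizer_iff.mpr fun y hy => hc y hy.1 x hx.2)
  obtain ⟨E₁', hE₁', hz₁⟩ := exists_centralising_normal hS hE₁ hZn
    (le_centralizerIn_of_comm h₁.1 fun z hz a ha => (hc a ha z hz.2).symm) inf_le_left
  obtain ⟨E₂', hE₂', hz₂⟩ := exists_centralising_normal hS hE₂ hZn
    (le_centralizerIn_of_comm h₂.1 fun z hz b hb => hc z hz.1 b hb) inf_le_right
  obtain ⟨D, hD, -⟩ := exists_normal_centralProduct hS hE₁' hE₂' hc hz₁ hz₂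
  exact ⟨D, hD, fun a b => absurd ⟨a, b⟩ h⟩

end Cfsg.FusionSystem.Layer
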