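import Cfsg.Agent.Lib.Fusion.Layer.Least
import Cfsg.Agent.Lib.Fusion.Layer.Commuting
import Cfsg.Agent.Lib.Fusion.SubCent.CentralizerNormal
import Cfsg.Agent.S5150

/-!
The generalized Fitting subsystem.
-/

set_option autoImplicit false
set_option linter.unusedSectionVars false
set_option linter.style.haveILetI false

namespace Cfsg.FusionSystem.Layer

universe u

variable {Ω : Type u} [Group Ω] {S T U : Subgroup Ω} {F : FusionSystem S} {E : FusionSystem T}
  {D : FusionSystem U} {p : ℕ} [Finite S] [Fact p.Prime]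

/-- The layer commutes with the largest normal subgroup. -/
theorem layer_comm_core (hS : IsPGroup p S) (hF : F.IsSaturated p) (hE : E.IsLayerOf F p) :
    ∀ a ∈ F.core, ∀ b ∈ T, a * b = b * a := fun a ha _ hb => by
  have h := (Cfsg.Agent.S5150.result p hS F hF E hE T (E.id_mem le_rfl)).2.1 hb
  exact Subgroup.mem_centralizer_iff.mp h.2 a ha

theorem core_inter_layer_center (hS : IsPGroup p S) (hF : F.IsSaturated p) (hE : E.IsLayerOf F p) :
    F.core ⊓ T ≤ (innerFusionSystem F.core).center ∧ F.core ⊓ T ≤ E.center := by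
  have hR := (FusionSystem.isNormal_core F).1
  haveI := finite_of_le hR
  refine ⟨(isCentral_of_isConjElt_eq (innerFusionSystem_isSaturated F.core p (hS.to_le hR)) inf_le_left
    ?_).le_center, (isCentral_of_centralized hS hE.1.1.1 hE.1.1.2.2.2.1.1 inf_le_right fun P φ hφ =>
      SubCent.centralizerHom_mono inf_le_left (Cfsg.Agent.S5150.result p hS F hF E hE P hφ)).le_center⟩
  rintro x hx y ⟨φ, ⟨-, g, hg, hge⟩, hφy⟩
  rw [← hφy, hge]
  show g * x * g⁻¹ = x
  rw [layer_comm_core hS hF hE g hg x hx.2, mul_inv_cancel_right]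

/-- A generalized Fitting subsystem exists. -/
theorem exists_fitting (hS : IsPGroup p S) (hF : F.IsSaturated p) :
    ∃ (U : Subgroup Ω) (D : FusionSystem U), D.IsGeneralizedFittingOf F p := by
  obtain ⟨T, E, hE⟩ := exists_layer hS hF
  obtain ⟨h₁, h₂⟩ := core_inter_layer_center hS hF hE
  obtain ⟨D, -, hD⟩ := exists_normal_centralProduct hS
    (CoreCent.isNormalIn_inner hS hF (FusionSystem.isNormal_core F)) hE.1 (layer_comm_core hS hF hE) h₁ h₂
  exact ⟨_, D, T, E, hE, hD⟩

/-- Every generalized Fitting subsystem is normal. -/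
theorem fitting_normal (hS : IsPGroup p S) (hF : F.IsSaturated p) (hD : D.IsGeneralizedFittingOf F p) :
    D.IsNormalIn F p := by
  obtain ⟨T, E, hE, hc⟩ := hD
  obtain ⟨h₁, h₂⟩ := core_inter_layer_center hS hF hE
  exact normal_of_centralProduct hS (CoreCent.isNormalIn_inner hS hF (FusionSystem.isNormal_core F)) hE.1
    h₁ h₂ hc

/-- The self-centralizing property. -/
theorem fitting_self_centralizing (hS : IsPGroup p S) (hF : F.IsSaturated p)
    (hD : D.IsGeneralizedFittingOf F p) :
    (D.center ≤ centralizerIn S U ∧ ∀ P : Subgroup Ω, D.Hom P ⊆ F.centralizerHom D.center P) ∧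
      ∀ Y : Subgroup Ω, Y ≤ centralizerIn S U → (∀ P : Subgroup Ω, D.Hom P ⊆ F.centralizerHom Y P) →
        Y ≤ D.center := by
  have hn := fitting_normal hS hF hD
  have hUS : U ≤ S := hn.1.2.2.2.1.1
  haveI := finite_of_le hUS
  have hcen : D.IsCentral D.center := isCentral_center D
  refine ⟨⟨fun z hz => ⟨hUS (hcen.1 hz), Subgroup.mem_centralizer_iff.mpr fun x hx => mem_center_comm hz hx⟩,
    centralized_of_isCentral hn.1.2.2.1 hcen⟩, fun Y hY hDY => ?_⟩
  obtain ⟨T, E, hE, hc⟩ := hD
  have hU := (isProd_of_centralProduct hc).carrier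
  obtain ⟨N, hN, -⟩ := SubCent.exists_normal_centSub hS hn
  have hY' : SubCent.centSub D F ≤ centralizerIn S U := SubCent.centSub_le
  have hY'S : SubCent.centSub D F ≤ S := hY'.trans centralizerIn_le
  haveI := finite_of_le hY'S
  have hNc : N.IsConstrained p := by
    refine (Components.isConstrained_iff (hS.to_le hY'S) hN.1.1).mpr fun ⟨W, K, hK⟩ => ?_
    have hKT : W ≤ T := le_of_isSubsystemOf (hE.2.1 W K (component_up (subnormal_of_normal hN) hK))
    have hWY : W ≤ SubCent.centSub D F := hK.1.le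
    haveI := finite_of_le hWY
    refine quasisimple_nonabelian (hS.to_le (hWY.trans hY'S)) hK.2 fun x hx y hy => ?_
    exact (Subgroup.mem_centralizer_iff.mp (hY' (hWY hy)).2 x (hU ▸ Subgroup.mem_sup_right (hKT hx)))
  have hcore : N.core ≤ F.core := (hN.1.2.2.isNormal_core hF hS).le_core
  have hle : SubCent.centSub D F ≤ U := fun y hy => by
    refine (le_sup_left.trans hU.ge) (hcore (hNc.isCentric_core.centralizerIn_le_self
      ⟨hy, Subgroup.mem_centralizer_iff.mpr fun r hr => ?_⟩))
    exact Subgroup.mem_centralizer_iff.mp (hY' hy).2 r ((le_sup_left.trans hU.ge) (hcore hr))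
  exact (isCentral_of_centralized hS hn.1.1 hUS ((SubCent.le_centSub hY hDY).trans hle) hDY).le_center

end Cfsg.FusionSystem.Layer
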