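import Cfsg.Agent.Lib.Fusion.Layer.Closure

/-!
Components are normal in the layer, in the generalized Fitting subsystem, and split along central products.
-/

set_option autoImplicit false
set_option linter.unusedSectionVars false
set_option linter.style.haveILetI false

namespace Cfsg.FusionSystem.Layer

open Cfsg.FusionSystem.SubCent (centSub centSub_le le_centSub exists_normal_centSub centralizerHom_mono)

universe u

variable {Ω : Type u} [Group Ω] {S T T' U U' : Subgroup Ω} {F : FusionSystem S} {N : FusionSystem T}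
  {N' : FusionSystem T'} {C : FusionSystem U} {C' : FusionSystem U'} {p : ℕ}

/-- `N` is the least normal subsystem containing `C`. -/
def IsClosure (C : FusionSystem U) (N : FusionSystem T) (F : FusionSystem S) (p : ℕ) : Prop :=
  IsLeast (fun _ C' => C'.IsSubsystemOf C ∧ C.IsSubsystemOf C') N F p

theorem IsClosure.le (hN : IsClosure C N F p) : C.IsSubsystemOf N :=
  hN.2.1 U C ⟨fun _ _ h => h, fun _ _ h => h⟩

theorem IsClosure.least (hN : IsClosure C N F p) {D : FusionSystem U'} (hD : D.IsNormalIn F p)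
    (hCD : C.IsSubsystemOf D) : N.IsSubsystemOf D :=
  hN.2.2 _ D hD fun _ _ h P φ hφ => hCD P (h.1 P hφ)

variable [Finite S] [Fact p.Prime]

theorem IsClosure.layer (hS : IsPGroup p S) (hF : F.IsSaturated p) (hC : C.IsComponentIn F p)
    (hN : IsClosure C N F p) : N.IsLayerOf N p :=
  layer_self hS hF (fun _ _ h => eq_rec_of_subsystem (prop := fun {_} G => G.IsComponentIn F p) h.2 h.1 hC) hN

theorem exists_closure (hS : IsPGroup p S) (hF : F.IsSaturated p) (hC : C.IsComponentIn F p) :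
    ∃ (T : Subgroup Ω) (N : FusionSystem T), IsClosure C N F p :=
  exists_isLeast hS hF _ fun _ _ h =>
    eq_rec_of_subsystem (prop := fun {_} G => G.IsComponentIn F p) h.2 h.1 hC

/-- A component inside a normal subsystem is a subsystem of it. -/
theorem subsystem_of_le (hS : IsPGroup p S) (hF : F.IsSaturated p) (hC : C.IsComponentIn F p)
    (hN : N.IsNormalIn F p) (hle : U ≤ T) : C.IsSubsystemOf N :=
  (Components.subnormal_basic (component_of_le hS hF hC hN hle).1).2.1

/-- All components in the closure of a component normal in it have the same closure. -/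
theorem closure_eq (hS : IsPGroup p S) (hF : F.IsSaturated p) (hC : C.IsComponentIn F p)
    (hN : IsClosure C N F p) (hCN : C.IsNormalIn N p) (hC' : C'.IsComponentIn F p) (hle : U' ≤ T)
    (hN' : IsClosure C' N' F p) : N.IsSubsystemOf N' := by
  by_contra hnot
  have hTS : T ≤ S := hN.1.1.2.2.2.1.1
  have hT'S : T' ≤ S := hN'.1.1.2.2.2.1.1
  have hU'S : U' ≤ S := (Components.subnormal_basic hC'.1).2.2
  haveI := finite_of_le hTS
  haveI := finite_of_le hT'S
  haveI := finite_of_le hU'S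
  have hTp : IsPGroup p T := hS.to_le hTS
  have hNs : N.IsSaturated p := hN.1.1.1
  -- the other closure is normal in `N`
  have hN'N : N'.IsSubsystemOf N := hN'.least hN.1 (subsystem_of_le hS hF hC' hN.1 hle)
  have hp : Wedge.IsPair F p N' N := ⟨hS, hN'.1, hN.1⟩
  have hm : C'.IsSubsystemOf hp.meet :=
    subsystem_of_le hS hF hC' hp.meet_normal (le_inf (le_of_isSubsystemOf hN'.le) hle)
  have hN'n : N'.IsNormalIn N p := eq_rec_of_subsystem (prop := fun {_} G => G.IsNormalIn N p)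
    hp.meet_normal₁.1.2.2.1 (hN'.least hp.meet_normal hm) hp.meet_normal₂
  have hT'T : T' ≤ T := hN'n.1.2.2.2.1.1
  -- `C` is not in it
  have hcen : U ⊓ T' ≤ C.center := by
    refine (component_or_central hC.1 hS hF hC.2 hN'.1).resolve_left fun h => hnot ?_
    exact hN.least hN'.1 (Components.subnormal_basic h).2.1
  have hUT : U ≤ T := hCN.1.2.2.2.1.1
  have hcomm : ∀ a ∈ U, ∀ b ∈ T', a * b = b * a :=
    commute_of_hyperfocal hTp hCN hN'n.1.2.2.2.1 hcen hC.2.2.1
  have hz : T' ⊓ U ≤ N'.center := by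
    refine abelian_le_center_of_self (hS.to_le hT'S) hN'.1.1.1 (hN'.layer hS hF hC') ?_
      fun x hx y hy => (hcomm y hy.2 x hx.1).symm
    exact ⟨inf_le_left, fun R hR φ hφ x =>
      ⟨N'.apply_mem hφ x, hCN.1.2.2.2.1.2 R (hR.trans inf_le_right) φ (hN'N R hφ) x⟩⟩
  have hfix := hom_fix hTp hN'n hCN.1.2.2.2.1 (fun a ha b hb => (hcomm b hb a ha).symm) hz
  have hY : U ≤ centSub N' F :=
    le_centSub (le_centralizerIn_of_comm (hUT.trans hTS) fun a ha b hb => (hcomm b hb a ha).symm)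
      fun P φ hφ => centralizerHom_le hN.1.1.2.2.1 (hfix P hφ)
  obtain ⟨D, hD, -⟩ := exists_normal_centSub hS hN'.1
  have hTY : T ≤ centSub N' F := le_of_isSubsystemOf (hN.least hD (subsystem_of_le hS hF hC hD hY))
  refine quasisimple_nonabelian (hS.to_le hU'S) hC'.2 fun x hx y hy => ?_
  exact (Subgroup.mem_centralizer_iff.mp (centSub_le (hTY (hle hx))).2 y
    (le_of_isSubsystemOf hN'.le hy)).symm

/-- A normal subsystem not containing a component meets its closure in the centre. -/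
theorem inter_le_center (hS : IsPGroup p S) (hF : F.IsSaturated p) (hC : C.IsComponentIn F p)
    (hN : IsClosure C N F p) (hCN : C.IsNormalIn N p) (hN' : N'.IsNormalIn F p) (hle : ¬ U ≤ T') :
    T ⊓ T' ≤ N.center := by
  have hTS : T ≤ S := hN.1.1.2.2.2.1.1
  haveI := finite_of_le hTS
  have hTp : IsPGroup p T := hS.to_le hTS
  have hp : Wedge.IsPair F p N N' := ⟨hS, hN.1, hN'⟩
  haveI := finite_of_le (inf_le_left.trans hTS : T ⊓ T' ≤ S)
  refine Components.carrier_le_center hTp hN.1.1.1 (core_le_center_of_self hTp hN.1.1.1 (hN.layer hS hF hC))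
    hp.meet_normal₁ ?_
  refine (Components.isConstrained_iff (hS.to_le (inf_le_left.trans hTS)) hp.meet_sat).mpr ?_
  rintro ⟨U₂, C₂, hC₂⟩
  have hC₂F := component_up (subnormal_of_normal hp.meet_normal) hC₂
  have hle₂ := le_of_isSubsystemOf (Components.subnormal_basic hC₂.1).2.1
  obtain ⟨T₂, N₂, hN₂⟩ := exists_closure hS hF hC₂F
  have h := closure_eq hS hF hC hN hCN hC₂F (hle₂.trans inf_le_left) hN₂
  have h' := hN₂.least hp.meet_normal (Components.subnormal_basic hC₂.1).2.1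
  exact hle (((le_of_isSubsystemOf hN.le).trans ((le_of_isSubsystemOf h).trans (le_of_isSubsystemOf h'))).trans
    inf_le_right)

omit [Finite S] [Fact p.Prime] in
/-- A subnormal subsystem is everything or lies in a proper normal subsystem. -/
theorem top_or_proper (hC : C.IsSubnormalIn F p) : F.IsSubsystemOf C ∨
    ∃ (V : Subgroup Ω) (M : FusionSystem V), M.IsNormalIn F p ∧ ¬ F.IsSubsystemOf M ∧ C.IsSubsystemOf M := by
  induction hC with
  | refl F p => exact Or.inl fun P φ h => h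
  | @step V₀ S₀ C D F p hCD hDF ih =>
    by_cases hFD : F.IsSubsystemOf D
    · rcases ih with h | ⟨V, M, hM, hDM, hCM⟩
      · exact Or.inl fun P φ hφ => h P (hFD P hφ)
      · exact Or.inr ⟨V, M, eq_rec_of_subsystem (prop := fun {_} G => M.IsNormalIn G p) hDF.1.2.2.1 hFD hM,
          fun h => hDM fun P φ hφ => h P (hDF.1.2.2.1 P hφ), hCM⟩
    · exact Or.inr ⟨V₀, D, hDF, hFD, (Components.subnormal_basic hCD).2.1⟩

omit [Finite S] in
/-- **Components are normal in the layer.** -/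
theorem component_normal_layer_aux : ∀ (n : ℕ) {S : Subgroup Ω} [Finite S] {F : FusionSystem S},
    IsPGroup p S → F.IsSaturated p → (Components.allMaps F).ncard = n →
    ∀ {T : Subgroup Ω} {E : FusionSystem T}, E.IsLayerOf F p →
      ∀ {U : Subgroup Ω} {C : FusionSystem U}, C.IsComponentIn F p → C.IsNormalIn E p := by
  intro n
  induction n using Nat.strong_induction_on with
  | _ n ih =>
    intro S _ F hS hF hn T E hE U C hC
    -- proper least systems
    have step : ∀ {V : Subgroup Ω} {M : FusionSystem V}, M.IsNormalIn F p → ¬ F.IsSubsystemOf M →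
        M.IsLayerOf M p → ∀ {U : Subgroup Ω} {C : FusionSystem U}, C.IsComponentIn F p → U ≤ V →
          C.IsNormalIn M p := by
      intro V M hM hnot hself U C hC hle
      have hVS : V ≤ S := hM.1.2.2.2.1.1
      haveI := finite_of_le hVS
      have hlt : (Components.allMaps M).ncard < n := by
        rw [← hn]
        refine Set.ncard_lt_ncard ⟨fun x hx => hM.1.2.2.1 _ hx, fun h => hnot fun P φ hφ => ?_⟩
          (Components.allMaps_finite le_rfl F)
        exact h (a := ⟨P, φ⟩) hφ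
      exact ih _ hlt (hS.to_le hVS) hM.1.1 rfl hself (component_of_le hS hF hC hM hle)
    by_cases hFE : F.IsSubsystemOf E
    swap
    · exact step hE.1 hFE (layer_self hS hF (fun _ _ h => h) hE) hC (le_of_isSubsystemOf (hE.2.1 U C hC))
    suffices hCF : C.IsNormalIn F p from
      eq_rec_of_subsystem (prop := fun {_} G => C.IsNormalIn G p) hFE hE.1.1.2.2.1 hCF
    rcases top_or_proper hC.1 with htop | ⟨V, M, hM, hFM, hCM⟩
    · exact eq_rec_of_subsystem (prop := fun {_} G => G.IsNormalIn F p) htop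
        (Components.subnormal_basic hC.1).2.1 (isNormalIn_self hF)
    obtain ⟨T₁, N, hN⟩ := exists_closure hS hF hC
    have hFN : ¬ F.IsSubsystemOf N := fun h => hFM fun P φ hφ => hN.least hM hCM P (h P hφ)
    have hCN : C.IsNormalIn N p := step hN.1 hFN (hN.layer hS hF hC) hC (le_of_isSubsystemOf hN.le)
    have hT₁S : T₁ ≤ S := hN.1.1.2.2.2.1.1
    haveI := finite_of_le hT₁S
    -- the components outside `N` centralise it
    have hout : ∀ {U' : Subgroup Ω} {C' : FusionSystem U'}, C'.IsComponentIn F p → ¬ U' ≤ T₁ →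
        U' ≤ centSub N F := by
      intro U' C' hC' hnle
      have hU'S : U' ≤ S := (Components.subnormal_basic hC'.1).2.2
      obtain ⟨W, M', hM', hFM', hC'M'⟩ : ∃ (V : Subgroup Ω) (M : FusionSystem V),
          M.IsNormalIn F p ∧ ¬ F.IsSubsystemOf M ∧ C'.IsSubsystemOf M := by
        refine (top_or_proper hC'.1).resolve_left fun h => hFM fun P φ hφ => ?_
        have hq : F.Quasisimple p := eq_rec_of_subsystem (prop := fun {_} G => G.Quasisimple p)
          (Components.subnormal_basic hC'.1).2.1 h hC'.2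
        exact hCM P (component_of_quasisimple hS hq hC P hφ)
      obtain ⟨T₂, N', hN'⟩ := exists_closure hS hF hC'
      have hFN' : ¬ F.IsSubsystemOf N' := fun h => hFM' fun P φ hφ => hN'.least hM' hC'M' P (h P hφ)
      have hC'N' : C'.IsNormalIn N' p :=
        step hN'.1 hFN' (hN'.layer hS hF hC') hC' (le_of_isSubsystemOf hN'.le)
      have hUT₂ : ¬ U ≤ T₂ := fun h => hnle
        ((le_of_isSubsystemOf hN'.le).trans (le_of_isSubsystemOf (closure_eq hS hF hC' hN' hC'N' hC h hN)))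
      have h₁ := inter_le_center hS hF hC hN hCN hN'.1 hUT₂
      have h₂ := inter_le_center hS hF hC' hN' hC'N' hN.1 hnle
      have hcomm : ∀ a ∈ T₁, ∀ b ∈ T₂, a * b = b * a :=
        commute_of_hyperfocal hS hN.1 hN'.1.1.2.2.2.1 h₁
          (hyperfocal_eq_of_self (hS.to_le hT₁S) hN.1.1.1 (hN.layer hS hF hC))
      refine (le_of_isSubsystemOf hN'.le).trans (le_centSub (le_centralizerIn_of_comm hN'.1.1.2.2.2.1.1 hcomm) ?_)
      exact hom_fix hS hN.1 hN'.1.1.2.2.2.1 hcomm h₁
    obtain ⟨D, hD, hDc⟩ := exists_normal_centSub hS hN.1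
    have hYS : centSub N F ≤ S := hD.1.2.2.2.1.1
    haveI := finite_of_le hYS
    have hcY : ∀ a ∈ T₁, ∀ b ∈ centSub N F, a * b = b * a := fun a ha b hb =>
      Subgroup.mem_centralizer_iff.mp (centSub_le hb).2 a ha
    have hz₂ : T₁ ⊓ centSub N F ≤ D.center :=
      (isCentral_of_centralized hS hD.1.1 hYS inf_le_right fun P φ hφ =>
        centralizerHom_mono inf_le_left (hDc P hφ)).le_center
    have hz₁ : T₁ ⊓ centSub N F ≤ N.center := by
      refine abelian_le_center_of_self (hS.to_le hT₁S) hN.1.1.1 (hN.layer hS hF hC) ?_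
        fun x hx y hy => hcY x hx.1 y hy.2
      exact ⟨inf_le_left, fun R hR φ hφ x =>
        ⟨N.apply_mem hφ x, hD.1.2.2.2.1.2 R (hR.trans inf_le_right) φ (hN.1.1.2.2.1 R hφ) x⟩⟩
    obtain ⟨G, hG, hGc⟩ := exists_normal_centralProduct hS hN.1 hD hcY hz₁ hz₂
    have h := isProd_of_centralProduct hGc
    have hNG : N.IsSubsystemOf G := h.left_le (hS.to_le hT₁S) hN.1.1.1 hz₁
    have hDG : D.IsSubsystemOf G :=
      h.swap.left_le (hS.to_le hYS) hD.1.1 (by rw [inf_comm]; exact hz₂)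
    have hall : ∀ (U' : Subgroup Ω) (C' : FusionSystem U'), C'.IsComponentIn F p → C'.IsSubsystemOf G := by
      intro U' C' hC' P φ hφ
      by_cases hle : U' ≤ T₁
      · exact hNG P (subsystem_of_le hS hF hC' hN.1 hle P hφ)
      · exact hDG P (subsystem_of_le hS hF hC' hD (hout hC' hle) P hφ)
    have hFG : F.IsSubsystemOf G := fun P φ hφ => hE.2.2 _ G hG hall P (hFE P hφ)
    haveI := finite_of_le hG.1.2.2.2.1.1
    have hCG : C.IsNormalIn G p :=
      h.normal_of_normal_left (hS.to_le hG.1.2.2.2.1.1) hG.1.1 hNG hz₁ hz₂ hCN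
    exact eq_rec_of_subsystem (prop := fun {_} H => C.IsNormalIn H p) hG.1.2.2.1 hFG hCG

/-- **Components are normal in the layer.** -/
theorem component_normal_layer (hS : IsPGroup p S) (hF : F.IsSaturated p) (hN : N.IsLayerOf F p)
    (hC : C.IsComponentIn F p) : C.IsNormalIn N p :=
  component_normal_layer_aux _ hS hF rfl hN hC

theorem IsClosure.normal (hS : IsPGroup p S) (hF : F.IsSaturated p) (hC : C.IsComponentIn F p)
    (hN : IsClosure C N F p) : C.IsNormalIn N p := by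
  haveI := finite_of_le hN.1.1.2.2.2.1.1
  exact component_normal_layer (hS.to_le hN.1.1.2.2.2.1.1) hN.1.1.1 (hN.layer hS hF hC)
    (component_of_le hS hF hC hN.1 (le_of_isSubsystemOf hN.le))

/-- Components are normal in every generalized Fitting subsystem. -/
theorem component_normal_fitting (hS : IsPGroup p S) (hF : F.IsSaturated p) {W : Subgroup Ω}
    {D : FusionSystem W} (hD : D.IsGeneralizedFittingOf F p) (hC : C.IsComponentIn F p) :
    C.IsNormalIn D p := by
  have hDn := fitting_normal hS hF hD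
  obtain ⟨T₁, E, hE, hc⟩ := hD
  have hWS : W ≤ S := hDn.1.2.2.2.1.1
  haveI := finite_of_le hWS
  have hT₁S : T₁ ≤ S := hE.1.1.2.2.2.1.1
  haveI := finite_of_le hT₁S
  obtain ⟨h₁, h₂⟩ := core_inter_layer_center hS hF hE
  have h := (isProd_of_centralProduct hc).swap
  rw [inf_comm] at h₁ h₂
  exact h.normal_of_normal_left (hS.to_le hWS) hDn.1.1 (h.left_le (hS.to_le hT₁S) hE.1.1.1 h₂) h₂ h₁
    (component_normal_layer hS hF hE hC)

/-- The common part of the factors of a central product is central in both. -/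
theorem center_of_centralProduct {S₁ S₂ : Subgroup Ω} {F₁ : FusionSystem S₁} {F₂ : FusionSystem S₂}
    [Finite S₁] [Finite S₂] (h₁ : F₁.IsSaturated p) (h₂ : F₂.IsSaturated p)
    (hc : IsCentralProductOf F₁ F₂ F) : S₁ ⊓ S₂ ≤ F₁.center ∧ S₁ ⊓ S₂ ≤ F₂.center := by
  obtain ⟨D₀, hD₀, Z, θ, hZ, -, -, hθ₁, hθ₂, hfac⟩ := hc
  haveI : Finite ↥(S₁.prod S₂) := Finite.of_equiv _ (Subgroup.prodEquiv S₁ S₂).symm.toEquiv
  have hmem : ∀ x ∈ S₁ ⊓ S₂, ((x, x⁻¹) : Ω × Ω) ∈ D₀.center := by
    intro x hx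
    have ha : ((x, 1) : Ω × Ω) ∈ S₁.prod S₂ := ⟨hx.1, S₂.one_mem⟩
    have hb : ((1, x⁻¹) : Ω × Ω) ∈ S₁.prod S₂ := ⟨S₁.one_mem, S₂.inv_mem hx.2⟩
    refine hZ ((hfac.2.1 ⟨(x, x⁻¹), hx.1, S₂.inv_mem hx.2⟩).mp ?_)
    calc θ ⟨(x, x⁻¹), hx.1, S₂.inv_mem hx.2⟩ = θ (⟨(x, 1), ha⟩ * ⟨(1, x⁻¹), hb⟩) :=
          congrArg θ (Subtype.ext (by simp))
      _ = 1 := by rw [map_mul, hθ₁ x ha, hθ₂ x⁻¹ hb, mul_inv_cancel]
  have hfix : ∀ x ∈ S₁ ⊓ S₂, ∀ {A B : Subgroup Ω} {φ₁ : A →* Ω} {φ₂ : B →* Ω}, φ₁ ∈ F₁.Hom A →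
      φ₂ ∈ F₂.Hom B → ∀ (hA : x ∈ A) (hB : x⁻¹ ∈ B), φ₁ ⟨x, hA⟩ = x ∧ φ₂ ⟨x⁻¹, hB⟩ = x⁻¹ := by
    intro x hx A B φ₁ φ₂ h₁ h₂ hA hB
    set P := A.prod B
    have hfst : P.map (MonoidHom.fst Ω Ω) ≤ A := by rintro _ ⟨y, hy, rfl⟩; exact hy.1
    have hsnd : P.map (MonoidHom.snd Ω Ω) ≤ B := by rintro _ ⟨y, hy, rfl⟩; exact hy.2
    let a : P →* A := ((MonoidHom.fst Ω Ω).comp P.subtype).codRestrict A fun y => y.2.1
    let b : P →* B := ((MonoidHom.snd Ω Ω).comp P.subtype).codRestrict B fun y => y.2.2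
    have hφ : (φ₁.comp a).prod (φ₂.comp b) ∈ D₀.Hom P := (hD₀ _ _).mpr
      ⟨Subgroup.prod_mono (F₁.source_le h₁) (F₂.source_le h₂), _, F₁.restrict_mem h₁ hfst,
        _, F₂.restrict_mem h₂ hsnd, fun _ _ _ => rfl⟩
    have e := apply_eq_self_of_isConjElt hφ (show ((x, x⁻¹) : Ω × Ω) ∈ P from ⟨hA, hB⟩) fun y hy =>
      (isCentral_center D₀).isConjElt_eq (hmem x hx) hy
    exact ⟨congrArg Prod.fst e, congrArg Prod.snd e⟩
  constructor
  · refine (isCentral_of_isConjElt_eq h₁ inf_le_left fun x hx y ⟨φ, hφ, hφy⟩ => ?_).le_center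
    rw [← hφy]
    exact (hfix x hx hφ (F₂.id_mem le_rfl) (Subgroup.mem_zpowers x) (S₂.inv_mem hx.2)).1
  · refine (isCentral_of_isConjElt_eq h₂ inf_le_right fun x hx y ⟨φ, hφ, hφy⟩ => ?_).le_center
    have hx' : x⁻¹ ∈ S₁ ⊓ S₂ := (S₁ ⊓ S₂).inv_mem hx
    have hm : (x⁻¹)⁻¹ ∈ Subgroup.zpowers x := by rw [inv_inv]; exact Subgroup.mem_zpowers x
    have e := (hfix x⁻¹ hx' (F₁.id_mem le_rfl) hφ hx'.1 hm).2
    simpa [hφy] using e

/-- Components of a central product are components of a factor. -/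
theorem component_centralProduct (hS : IsPGroup p S) (hF : F.IsSaturated p) {S₁ S₂ : Subgroup Ω}
    {F₁ : FusionSystem S₁} {F₂ : FusionSystem S₂} (h₁ : F₁.IsSaturated p) (h₂ : F₂.IsSaturated p)
    (h₁F : F₁.IsSubsystemOf F) (h₂F : F₂.IsSubsystemOf F) (hc : IsCentralProductOf F₁ F₂ F)
    (hC : C.IsComponentIn F p) : C.IsComponentIn F₁ p ∨ C.IsComponentIn F₂ p := by
  haveI := finite_of_le (le_of_isSubsystemOf h₁F)
  haveI := finite_of_le (le_of_isSubsystemOf h₂F)
  obtain ⟨hz₁, hz₂⟩ := center_of_centralProduct h₁ h₂ hc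
  have h := isProd_of_centralProduct hc
  have hn₁ : F₁.IsNormalIn F p :=
    h.normal_of_normal_left hS hF h₁F hz₁ hz₂ (isNormalIn_self h₁)
  have hn₂ : F₂.IsNormalIn F p :=
    h.swap.normal_of_normal_left hS hF h₂F (by rwa [inf_comm]) (by rwa [inf_comm]) (isNormalIn_self h₂)
  by_contra hnot
  obtain ⟨hnot₁, hnot₂⟩ := not_or.mp hnot
  obtain ⟨T₁, N, hN⟩ := exists_closure hS hF hC
  have hCN := hN.normal hS hF hC
  have hT₁S : T₁ ≤ S := hN.1.1.2.2.2.1.1
  haveI := finite_of_le hT₁S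
  have hhyp := hyperfocal_eq_of_self (hS.to_le hT₁S) hN.1.1.1 (hN.layer hS hF hC)
  have hc₁ := commute_of_hyperfocal hS hN.1 hn₁.1.2.2.2.1 (inter_le_center hS hF hC hN hCN hn₁
    fun h => hnot₁ (component_of_le hS hF hC hn₁ h)) hhyp
  have hc₂ := commute_of_hyperfocal hS hN.1 hn₂.1.2.2.2.1 (inter_le_center hS hF hC hN hCN hn₂
    fun h => hnot₂ (component_of_le hS hF hC hn₂ h)) hhyp
  haveI := finite_of_le (Components.subnormal_basic hC.1).2.2
  refine quasisimple_nonabelian (hS.to_le (Components.subnormal_basic hC.1).2.2) hC.2 fun x hx y hy => ?_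
  obtain ⟨a, ha, b, hb, rfl⟩ := decompose (le_sup_left.trans (le_normalizer_of_comm h.comm))
    (h.carrier ▸ (Components.subnormal_basic hC.1).2.2 hy)
  have hxT := le_of_isSubsystemOf hN.le hx
  rw [← mul_assoc, hc₁ x hxT a ha, mul_assoc, hc₂ x hxT b hb, mul_assoc]

end Cfsg.FusionSystem.Layer
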