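import Cfsg.Agent.Lib.Fusion.Wedge.Main
import Cfsg.Agent.Lib.Fusion.ComponentExists
import Cfsg.Agent.Lib.Fusion.TransportComponent
import Cfsg.Agent.Lib.Fusion.ResidualSeries.Up
import Cfsg.Agent.Lib.Fusion.ResidualReduction.Compose

/-!
Elementary facts on normal and subnormal subsystems used for the layer.
-/

set_option autoImplicit false
set_option linter.unusedSectionVars false
set_option linter.style.haveILetI false

namespace Cfsg.FusionSystem.Layer

universe u

variable {Ω : Type u} [Group Ω] {S T T' U : Subgroup Ω} {F : FusionSystem S} {E : FusionSystem T}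
  {D : FusionSystem T'} {p : ℕ}

/-- Two systems with the same maps have the same carrier. -/
theorem carrier_eq (h₁ : E.IsSubsystemOf D) (h₂ : D.IsSubsystemOf E) : T = T' :=
  le_antisymm (D.source_le (h₁ T (E.id_mem le_rfl))) (E.source_le (h₂ T' (D.id_mem le_rfl)))

/-- A property of systems depends on the maps only. -/
theorem eq_rec_of_subsystem {prop : ∀ {W : Subgroup Ω}, FusionSystem W → Prop} (h₁ : E.IsSubsystemOf D)
    (h₂ : D.IsSubsystemOf E) (h : prop E) : prop D := by
  obtain rfl := carrier_eq h₁ h₂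
  obtain rfl : E = D := hom_ext fun P => Set.Subset.antisymm (h₁ P) (h₂ P)
  exact h

theorem le_of_isSubsystemOf (h : E.IsSubsystemOf F) : T ≤ S := F.source_le (h T (E.id_mem le_rfl))

variable [Finite S] [Fact p.Prime]

theorem isNormalIn_self (hF : F.IsSaturated p) : F.IsNormalIn F p := by
  refine ⟨⟨hF, hF, isInvariantIn_self F⟩, fun α hα => ?_⟩
  obtain ⟨a, ha, hae⟩ := isIso_of_aut le_rfl hα
  have hS : S ⊔ centralizerIn S S = S := sup_eq_left.mpr centralizerIn_le
  have ha' : F.IsIso (S ⊔ centralizerIn S S) (S ⊔ centralizerIn S S) a := by rw [hS]; exact ha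
  obtain ⟨β, hβ, hβe⟩ := ha'.toAut
  refine ⟨β, hβ, fun x => (hβe _).trans (hae x).symm, fun c hc => ?_⟩
  rw [hβe]
  refine ⟨S.mul_mem (S.inv_mem hc.1) (ha.mem hc.1), Subgroup.mem_centralizer_iff.mpr fun y hy => ?_⟩
  have hac : a c ∈ centralizerIn S S := ⟨ha.mem hc.1, Subgroup.mem_centralizer_iff.mpr fun z hz => by
    obtain ⟨w, hw, rfl⟩ := ha.surj hz
    rw [← ha.apply_mul hw hc.1, ← ha.apply_mul hc.1 hw, Subgroup.mem_centralizer_iff.mp hc.2 w hw]⟩
  exact Subgroup.mem_centralizer_iff.mp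
    ((centralizerIn S S).mul_mem ((centralizerIn S S).inv_mem hc) hac).2 y hy

/-- An invariant subsystem is invariant in every saturated intermediate system. -/
theorem isInvariantIn_mid {W : Subgroup Ω} {G : FusionSystem W} [Finite W] (hW : IsPGroup p W)
    (hG : G.IsSaturated p) (hE : E.IsInvariantIn F) (hEG : E.IsSubsystemOf G) (hGF : G.IsSubsystemOf F) :
    E.IsInvariantIn G := by
  refine StrongInvariance.isInvariantIn hG hW ⟨le_of_isSubsystemOf hEG, fun R hR φ hφ =>
    hE.2.1.2 R hR φ (hGF R hφ)⟩ hEG fun P Q hPQ hQT φ hφ hφQ ψ hψ =>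
      hE.strongInvariance P Q hPQ hQT φ hφ hφQ ψ (hGF Q hψ)

/-- An abelian strongly closed subgroup is normal. -/
theorem isNormal_of_abelian (hS : IsPGroup p S) (hF : F.IsSaturated p) {Z : Subgroup Ω}
    (hZ : F.StronglyClosed Z) (hab : ⁅Z, Z⁆ = ⊥) : F.IsNormal Z := by
  refine hF.isNormal_of_series hS (n := 1) ![⊥, Z] rfl rfl ?_ fun i => ?_
  · refine Fin.monotone_iff_le_succ.mpr fun i => ?_
    fin_cases i
    exact bot_le
  · fin_cases i
    exact ⟨hZ, hab.le⟩

/-- A subgroup of the carrier centralised by the system in the ambient one is central. -/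
theorem isCentral_of_centralized (hS : IsPGroup p S) (hE : E.IsSaturated p) (hTS : T ≤ S) {Z : Subgroup Ω}
    (hZ : Z ≤ T) (h : ∀ P, E.Hom P ⊆ F.centralizerHom Z P) : E.IsCentral Z := by
  haveI := finite_of_le hTS
  refine isCentral_of_isConjElt_eq hE hZ fun x hx y ⟨φ, hφ, hφy⟩ => ?_
  obtain ⟨-, -, -, ψ, -, hψe, hψZ⟩ := h _ hφ
  rw [← hφy, ← hψe]
  exact hψZ ⟨x, hx⟩

/-- A central subgroup is centralised in every larger system. -/
theorem centralized_of_isCentral {Z : Subgroup Ω} (hsub : E.IsSubsystemOf F) (hZ : E.IsCentral Z)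
    (P : Subgroup Ω) : E.Hom P ⊆ F.centralizerHom Z P := by
  intro φ hφ
  obtain ⟨ψ, hψ, hψe, hψZ⟩ := hZ.2 P φ hφ
  have hc : ∀ x ∈ T, x ∈ centralizerIn S Z := fun x hx =>
    ⟨le_of_isSubsystemOf hsub hx, Subgroup.mem_centralizer_iff.mpr fun z hz => by
      have hz' : z ∈ Subgroup.centralizer (T : Set Ω) := E.center_le_centralizer (hZ.le_center hz)
      exact (Subgroup.mem_centralizer_iff.mp hz' x hx).symm⟩
  exact ⟨hsub P hφ, fun x hx => hc x (E.source_le hφ hx), fun x => hc _ (E.apply_mem hφ x), ψ,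
    hsub _ hψ, hψe, hψZ⟩

/-- The centre lies in the carrier and commutes with it. -/
theorem mem_center_comm {z x : Ω} (hz : z ∈ F.center) (hx : x ∈ S) : x * z = z * x :=
  Subgroup.mem_centralizer_iff.mp (F.center_le_centralizer hz) x hx

/-- A map of the system fixes the centre. -/
theorem center_fixed {P Q : Subgroup Ω} {f : Ω → Ω} (h : F.IsIso P Q f) {z : Ω} (hz : z ∈ F.center)
    (hzP : z ∈ P) : f z = z := by
  obtain ⟨φ, hφ, -, he⟩ := h
  rw [← he ⟨z, hzP⟩]
  exact apply_eq_self_of_isConjElt hφ hzP fun y hy => (isCentral_center F).isConjElt_eq hz hy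

omit [Fact p.Prime] in
/-- A quasisimple system has a nonabelian carrier. -/
theorem quasisimple_nonabelian [Fact p.Prime] (hS : IsPGroup p S) (hq : F.Quasisimple p) :
    ¬ ∀ x ∈ S, ∀ y ∈ S, x * y = y * x := by
  intro hab
  refine Components.not_isConstrained_of_quasisimple hS hq ⟨hq.1, S, ?_, isCentric_self⟩
  refine isNormal_of_abelian hS hq.1 ⟨le_rfl, fun R _ φ hφ x => F.apply_mem hφ x⟩ ?_
  rw [Subgroup.commutator_eq_bot_iff_le_centralizer]
  exact fun x hx => Subgroup.mem_centralizer_iff.mpr fun y hy => hab y hy x hx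

/-- The carrier of a quasisimple system is not central. -/
theorem quasisimple_not_le_center (hS : IsPGroup p S) (hq : F.Quasisimple p) : ¬ S ≤ F.center := fun h =>
  quasisimple_nonabelian hS hq fun x hx y hy => mem_center_comm (h hy) hx

end Cfsg.FusionSystem.Layer
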