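import Cfsg.Agent.Lib.Fusion.Layer.Split
import Cfsg.Agent.S5136
import Cfsg.Agent.S5137

/-!
Central products: description of the maps, existence and uniqueness.
-/

set_option autoImplicit false
set_option linter.unusedSectionVars false
set_option linter.style.haveILetI false

namespace Cfsg.FusionSystem.Layer

universe u

variable {Ω : Type u} [Group Ω] {S T₁ T₂ U U' P Q : Subgroup Ω} {F : FusionSystem S}
  {E₁ : FusionSystem T₁} {E₂ : FusionSystem T₂} {D : FusionSystem U} {p : ℕ}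

/-- The maps of the central product. -/
def ProdMap (E₁ : FusionSystem T₁) (E₂ : FusionSystem T₂) (φ : P →* Ω) : Prop :=
  P ≤ T₁ ⊔ T₂ ∧ ∃ φ₁ ∈ E₁.Hom (proj T₁ T₂ P), ∃ φ₂ ∈ E₂.Hom (proj T₂ T₁ P),
    ∀ (x : P) (a : proj T₁ T₂ P) (b : proj T₂ T₁ P), (x : Ω) = (a : Ω) * b → φ x = φ₁ a * φ₂ b

/-- `D` has exactly the product maps. -/
structure IsProd (E₁ : FusionSystem T₁) (E₂ : FusionSystem T₂) (D : FusionSystem U) : Prop where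
  comm : ∀ a ∈ T₁, ∀ b ∈ T₂, a * b = b * a
  carrier : U = T₁ ⊔ T₂
  hom : ∀ (P : Subgroup Ω) (φ : P →* Ω), φ ∈ D.Hom P ↔ ProdMap E₁ E₂ φ

theorem le_normalizer_of_comm {A B : Subgroup Ω} (hc : ∀ a ∈ A, ∀ b ∈ B, a * b = b * a) :
    A ⊔ B ≤ Subgroup.normalizer (B : Set Ω) :=
  sup_le (fun a ha => Subgroup.centralizer_le_normalizer _
    (Subgroup.mem_centralizer_iff.mpr fun b hb => (hc a ha b hb).symm)) Subgroup.le_normalizer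

theorem decompose_proj (hc : ∀ a ∈ T₁, ∀ b ∈ T₂, a * b = b * a) (hP : P ≤ T₁ ⊔ T₂) (x : P) :
    ∃ (a : proj T₁ T₂ P) (b : proj T₂ T₁ P), (x : Ω) = (a : Ω) * b := by
  obtain ⟨a, ha, b, hb, he⟩ := decompose (le_sup_left.trans (le_normalizer_of_comm hc)) (hP x.2)
  exact ⟨⟨a, mem_proj_of_eq x.2 ha hb he⟩,
    ⟨b, mem_proj_of_eq x.2 hb ha (by rw [he, hc a ha b hb])⟩, he⟩

theorem exists_of_proj (hc : ∀ a ∈ T₁, ∀ b ∈ T₂, a * b = b * a) (hP : P ≤ T₁ ⊔ T₂) {a : Ω}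
    (ha : a ∈ proj T₁ T₂ P) : ∃ b ∈ T₂, a * b ∈ P := by
  obtain ⟨-, x, hx, b, hb, rfl⟩ := (mem_proj (hP.trans (le_normalizer_of_comm hc))).mp ha
  exact ⟨b⁻¹, T₂.inv_mem hb, by simpa using hx⟩

theorem ProdMap.swap {φ : P →* Ω} (hc : ∀ a ∈ T₁, ∀ b ∈ T₂, a * b = b * a) (h : ProdMap E₁ E₂ φ) :
    ProdMap E₂ E₁ φ := by
  obtain ⟨hP, φ₁, h₁, φ₂, h₂, he⟩ := h
  refine ⟨hP.trans (sup_comm T₁ T₂).le, φ₂, h₂, φ₁, h₁, fun x b a hx => ?_⟩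
  rw [he x a b (by rw [hx]; exact (hc a a.2.2 b b.2.2).symm)]
  exact hc _ (E₁.apply_mem h₁ a) _ (E₂.apply_mem h₂ b)

theorem IsProd.swap (h : IsProd E₁ E₂ D) : IsProd E₂ E₁ D := by
  have hc' : ∀ a ∈ T₂, ∀ b ∈ T₁, a * b = b * a := fun a ha b hb => (h.comm b hb a ha).symm
  exact ⟨hc', h.carrier.trans (sup_comm T₁ T₂),
    fun P φ => (h.hom P φ).trans ⟨ProdMap.swap h.comm, ProdMap.swap hc'⟩⟩

/-- Product maps are determined. -/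
theorem IsProd.unique {D' : FusionSystem U'} (h : IsProd E₁ E₂ D) (h' : IsProd E₁ E₂ D') :
    D.IsSubsystemOf D' := fun P φ hφ => (h'.hom P φ).mpr ((h.hom P φ).mp hφ)

/-- A central product has the product maps. -/
theorem isProd_of_centralProduct (h : IsCentralProductOf E₁ E₂ D) : IsProd E₁ E₂ D := by
  obtain ⟨D₀, hD₀, Z, θ, -, -, -, hθ₁, hθ₂, hfac⟩ := h
  have hθ : ∀ (a b : Ω) (hab : ((a, b) : Ω × Ω) ∈ T₁.prod T₂), θ ⟨(a, b), hab⟩ = a * b := by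
    intro a b hab
    have ha : ((a, 1) : Ω × Ω) ∈ T₁.prod T₂ := ⟨hab.1, T₂.one_mem⟩
    have hb : ((1, b) : Ω × Ω) ∈ T₁.prod T₂ := ⟨T₁.one_mem, hab.2⟩
    calc θ ⟨(a, b), hab⟩ = θ (⟨(a, 1), ha⟩ * ⟨(1, b), hb⟩) := congrArg θ (Subtype.ext (by simp))
      _ = a * b := by rw [map_mul, hθ₁ a ha, hθ₂ b hb]
  have hc : ∀ a ∈ T₁, ∀ b ∈ T₂, a * b = b * a := by
    intro a ha b hb
    have ha' : ((a, 1) : Ω × Ω) ∈ T₁.prod T₂ := ⟨ha, T₂.one_mem⟩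
    have hb' : ((1, b) : Ω × Ω) ∈ T₁.prod T₂ := ⟨T₁.one_mem, hb⟩
    rw [← hθ₁ a ha', ← hθ₂ b hb', ← map_mul, ← map_mul]
    exact congrArg θ (Subtype.ext (by simp))
  have hU : U = T₁ ⊔ T₂ := by
    rw [← hfac.2.2.1]
    refine le_antisymm ?_ (sup_le (fun a ha => ⟨⟨(a, 1), ha, T₂.one_mem⟩, hθ₁ a _⟩)
      fun b hb => ⟨⟨(1, b), T₁.one_mem, hb⟩, hθ₂ b _⟩)
    rintro _ ⟨⟨⟨a, b⟩, hab⟩, rfl⟩
    rw [hθ a b hab]
    exact Subgroup.mul_mem_sup hab.1 hab.2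
  refine ⟨hc, hU, fun P φ => ?_⟩
  have hmem : ∀ {a b : Ω}, ((a, b) : Ω × Ω) ∈ preimageAlong θ P ↔ a ∈ T₁ ∧ b ∈ T₂ ∧ a * b ∈ P := by
    intro a b
    rw [mem_preimageAlong]
    constructor
    · rintro ⟨hab, h⟩
      rw [hθ a b hab] at h
      exact ⟨hab.1, hab.2, h⟩
    · rintro ⟨ha, hb, h⟩
      exact ⟨⟨ha, hb⟩, by rwa [hθ a b ⟨ha, hb⟩]⟩
  have hfst : P ≤ T₁ ⊔ T₂ → (preimageAlong θ P).map (MonoidHom.fst Ω Ω) = proj T₁ T₂ P := by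
    intro hP
    ext a
    constructor
    · rintro ⟨⟨a', b⟩, hab, rfl⟩
      obtain ⟨ha, hb, h⟩ := hmem.mp hab
      exact mem_proj_of_eq h ha hb rfl
    · intro ha
      obtain ⟨b, hb, h⟩ := exists_of_proj hc hP ha
      exact ⟨(a, b), hmem.mpr ⟨ha.2, hb, h⟩, rfl⟩
  have hsnd : P ≤ T₁ ⊔ T₂ → (preimageAlong θ P).map (MonoidHom.snd Ω Ω) = proj T₂ T₁ P := by
    intro hP
    have hc' : ∀ a ∈ T₂, ∀ b ∈ T₁, a * b = b * a := fun a ha b hb => (hc b hb a ha).symm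
    ext b
    constructor
    · rintro ⟨⟨a, b'⟩, hab, rfl⟩
      obtain ⟨ha, hb, h⟩ := hmem.mp hab
      exact mem_proj_of_eq h hb ha (hc a ha _ hb)
    · intro hb
      obtain ⟨a, ha, h⟩ := exists_of_proj hc' (hP.trans (sup_comm T₁ T₂).le) hb
      exact ⟨(a, b), hmem.mpr ⟨ha, hb.2, by rwa [hc a ha b hb.2]⟩, rfl⟩
  constructor
  · intro hφ
    obtain ⟨hP, φ₀, hφ₀, hi⟩ := (hfac.2.2.2 P φ).mp hφ
    replace hP : P ≤ T₁ ⊔ T₂ := hU ▸ hP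
    obtain ⟨hpre, φ₁, h₁, φ₂, h₂, he⟩ := (hD₀ _ φ₀).mp hφ₀
    refine ⟨hP, _, E₁.restrict_mem h₁ (hfst hP).ge, _, E₂.restrict_mem h₂ (hsnd hP).ge, fun x a b hx => ?_⟩
    have hab : ((a : Ω), (b : Ω)) ∈ preimageAlong θ P := hmem.mpr ⟨a.2.2, b.2.2, hx ▸ x.2⟩
    have hm : θ ⟨((a : Ω), (b : Ω)), hpre hab⟩ ∈ P := by rw [hθ]; exact hx ▸ x.2
    have h3 := inducedAlong_apply_mem hφ₀ hi ⟨_, hab⟩ hm
    have he' := he ⟨_, hab⟩ ((hfst hP).ge a.2) ((hsnd hP).ge b.2)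
    have hm2 := D₀.apply_mem hφ₀ ⟨_, hab⟩
    rw [he'] at hm2
    calc φ x = φ ⟨_, hm⟩ := congrArg φ (Subtype.ext (hx.trans (hθ _ _ (hpre hab)).symm))
      _ = θ ⟨φ₀ ⟨_, hab⟩, D₀.apply_mem hφ₀ _⟩ := h3
      _ = θ ⟨_, hm2⟩ := congrArg θ (Subtype.ext he')
      _ = _ := hθ _ _ hm2
  · rintro ⟨hP, φ₁, h₁, φ₂, h₂, he⟩
    refine (hfac.2.2.2 P φ).mpr ⟨hU ▸ hP, ?_⟩
    have hpre : preimageAlong θ P ≤ T₁.prod T₂ := preimageAlong_le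
    let π₁ : ↥(preimageAlong θ P) →* ↥((preimageAlong θ P).map (MonoidHom.fst Ω Ω)) :=
      ((MonoidHom.fst Ω Ω).comp (preimageAlong θ P).subtype).codRestrict _ fun y => ⟨y, y.2, rfl⟩
    let π₂ : ↥(preimageAlong θ P) →* ↥((preimageAlong θ P).map (MonoidHom.snd Ω Ω)) :=
      ((MonoidHom.snd Ω Ω).comp (preimageAlong θ P).subtype).codRestrict _ fun y => ⟨y, y.2, rfl⟩
    let ψ₁ := φ₁.comp (Subgroup.inclusion (hfst hP).le)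
    let ψ₂ := φ₂.comp (Subgroup.inclusion (hsnd hP).le)
    let φ₀ : ↥(preimageAlong θ P) →* Ω × Ω := (ψ₁.comp π₁).prod (ψ₂.comp π₂)
    have hφ₀ : φ₀ ∈ D₀.Hom (preimageAlong θ P) := (hD₀ _ _).mpr
      ⟨hpre, ψ₁, E₁.restrict_mem h₁ _, ψ₂, E₂.restrict_mem h₂ _, fun _ _ _ => rfl⟩
    refine ⟨φ₀, hφ₀, hpre, D₀.apply_mem hφ₀, fun x => (mem_preimageAlong.mp x.2).2, fun x => ?_⟩
    obtain ⟨ha, hb, h⟩ := hmem.mp (show ((x : Ω × Ω).1, (x : Ω × Ω).2) ∈ preimageAlong θ P from x.2)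
    have e2 : θ ⟨φ₀ x, D₀.apply_mem hφ₀ x⟩ = ψ₁ (π₁ x) * ψ₂ (π₂ x) :=
      hθ _ _ (D₀.apply_mem hφ₀ x)
    rw [e2]
    exact he ⟨θ ⟨x, hpre x.2⟩, (mem_preimageAlong.mp x.2).2⟩ ⟨_, (hfst hP).le (π₁ x).2⟩
      ⟨_, (hsnd hP).le (π₂ x).2⟩ (hθ _ _ (hpre x.2))

variable [Fact p.Prime]

/-- Central products exist and are saturated. -/
theorem exists_centralProduct [Finite T₁] [Finite T₂] (h₁p : IsPGroup p T₁) (h₂p : IsPGroup p T₂)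
    (h₁s : E₁.IsSaturated p) (h₂s : E₂.IsSaturated p) (hc : ∀ a ∈ T₁, ∀ b ∈ T₂, a * b = b * a)
    (hz₁ : T₁ ⊓ T₂ ≤ E₁.center) (hz₂ : T₁ ⊓ T₂ ≤ E₂.center) :
    ∃ D : FusionSystem (T₁ ⊔ T₂), IsCentralProductOf E₁ E₂ D ∧ D.IsSaturated p := by
  obtain ⟨D₀, hD₀⟩ := Cfsg.Agent.S5136.result p h₁p h₂p E₁ E₂
  have hs₀ : D₀.IsSaturated p := Cfsg.Agent.S5137.result p h₁p h₂p E₁ E₂ h₁s h₂s D₀ hD₀
  haveI : Finite ↥(T₁.prod T₂) := Finite.of_equiv _ (T₁.prodEquiv T₂).symm.toEquiv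
  have hp₀ : IsPGroup p ↥(T₁.prod T₂) := by
    intro x
    obtain ⟨k, hk⟩ := h₁p ⟨(x : Ω × Ω).1, x.2.1⟩
    obtain ⟨l, hl⟩ := h₂p ⟨(x : Ω × Ω).2, x.2.2⟩
    have hk' : (x : Ω × Ω).1 ^ p ^ k = 1 := congrArg Subtype.val hk
    have hl' : (x : Ω × Ω).2 ^ p ^ l = 1 := congrArg Subtype.val hl
    refine ⟨k + l, Subtype.ext (Prod.ext ?_ ?_)⟩
    · show ((x : Ω × Ω) ^ p ^ (k + l)).1 = 1
      rw [Prod.pow_fst, pow_add, pow_mul, hk', one_pow]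
    · show ((x : Ω × Ω) ^ p ^ (k + l)).2 = 1
      rw [Prod.pow_snd, pow_add, mul_comm, pow_mul, hl', one_pow]
  let θ : ↥(T₁.prod T₂) →* Ω :=
    { toFun := fun x => (x : Ω × Ω).1 * (x : Ω × Ω).2
      map_one' := by simp
      map_mul' := fun x y => by
        show ((x : Ω × Ω).1 * (y : Ω × Ω).1) * ((x : Ω × Ω).2 * (y : Ω × Ω).2) = _
        rw [show ((x : Ω × Ω).1 * (y : Ω × Ω).1) * ((x : Ω × Ω).2 * (y : Ω × Ω).2) =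
          (x : Ω × Ω).1 * ((y : Ω × Ω).1 * (x : Ω × Ω).2) * (y : Ω × Ω).2 by group, hc _ y.2.1 _ x.2.2]
        group }
  set Z := θ.ker.map (T₁.prod T₂).subtype with hZdef
  have hker : ∀ s, θ s = 1 ↔ ((s : ↥(T₁.prod T₂)) : Ω × Ω) ∈ Z := fun s =>
    ⟨fun h => ⟨s, h, rfl⟩, fun ⟨t, ht, he⟩ => (Subtype.ext he : t = s) ▸ ht⟩
  have hZc : D₀.IsCentral Z := by
    refine isCentral_of_isConjElt_eq hs₀ (Subgroup.map_subtype_le _) fun z hz y ⟨φ, hφ, hφy⟩ => ?_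
    obtain ⟨t, ht, rfl⟩ := hz
    obtain ⟨-, φ₁, h₁, φ₂, h₂, he⟩ := (hD₀ _ φ).mp hφ
    have ht1 : (t : Ω × Ω).1 * (t : Ω × Ω).2 = 1 := ht
    have hT₁ : (t : Ω × Ω).1 ∈ T₁ ⊓ T₂ :=
      ⟨t.2.1, by rw [eq_inv_of_mul_eq_one_left ht1]; exact T₂.inv_mem t.2.2⟩
    have hT₂ : (t : Ω × Ω).2 ∈ T₁ ⊓ T₂ :=
      ⟨by rw [eq_inv_of_mul_eq_one_right ht1]; exact T₁.inv_mem t.2.1, t.2.2⟩
    rw [← hφy, he ⟨_, Subgroup.mem_zpowers _⟩ ⟨_, Subgroup.mem_zpowers _, rfl⟩ ⟨_, Subgroup.mem_zpowers _, rfl⟩]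
    refine Prod.ext ?_ ?_
    · exact apply_eq_self_of_isConjElt h₁ _ fun y hy => (isCentral_center E₁).isConjElt_eq (hz₁ hT₁) hy
    · exact apply_eq_self_of_isConjElt h₂ _ fun y hy => (isCentral_center E₂).isConjElt_eq (hz₂ hT₂) hy
  have hsc : D₀.StronglyClosed Z := hZc.isNormal.stronglyClosed
  have hrange : θ.range = T₁ ⊔ T₂ := by
    refine le_antisymm ?_ (sup_le (fun a ha => ⟨⟨(a, 1), ha, T₂.one_mem⟩, mul_one a⟩)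
      fun b hb => ⟨⟨(1, b), T₁.one_mem, hb⟩, one_mul b⟩)
    rintro _ ⟨x, rfl⟩
    exact Subgroup.mul_mem_sup x.2.1 x.2.2
  have hex : ∀ W : Subgroup Ω, θ.range = W → ∃ D : FusionSystem W, D₀.IsFactorSystem Z θ D := by
    rintro W rfl
    exact ⟨factorSystem Z D₀ θ hker hsc, hZc.1, hker, rfl, fun P' φ' => Iff.rfl⟩
  obtain ⟨D, hD⟩ := hex _ hrange
  refine ⟨D, ⟨D₀, hD₀, Z, θ, hZc.le_center, ?_, ?_, fun x _ => mul_one x, fun y _ => one_mul y, hD⟩,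
    Cfsg.Agent.S5133.result p hp₀ D₀ hs₀ D θ (Cfsg.Agent.S5134.result p hp₀ D₀ hs₀ Z hsc θ D hD)⟩
  · rw [eq_bot_iff]
    rintro z ⟨⟨t, ht, rfl⟩, ht'⟩
    have ht1 : (t : Ω × Ω).1 * (t : Ω × Ω).2 = 1 := ht
    have h2 : (t : Ω × Ω).2 = 1 := Subgroup.mem_bot.mp ht'.2
    rw [h2, mul_one] at ht1
    exact Subgroup.mem_bot.mpr (Prod.ext ht1 h2)
  · rw [eq_bot_iff]
    rintro z ⟨⟨t, ht, rfl⟩, ht'⟩
    have ht1 : (t : Ω × Ω).1 * (t : Ω × Ω).2 = 1 := ht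
    have h2 : (t : Ω × Ω).1 = 1 := Subgroup.mem_bot.mp ht'.1
    rw [h2, one_mul] at ht1
    exact Subgroup.mem_bot.mpr (Prod.ext h2 ht1)

end Cfsg.FusionSystem.Layer
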