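import Cfsg.Agent.Lib.Fusion.Layer.Basics

/-!
A normal subsystem equal to its `p`-residual commutes with every strongly closed subgroup meeting its carrier
in its centre.
-/

set_option autoImplicit false
set_option linter.unusedSectionVars false
set_option linter.style.haveILetI false

namespace Cfsg.FusionSystem.Layer

open Cfsg.FusionSystem.SubCent (eq_top_of_sylow_of_pprime le_sylow)

universe u

variable {Ω : Type u} [Group Ω] {S T L P : Subgroup Ω} {F : FusionSystem S} {E : FusionSystem T}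
  {f : Ω → Ω} {p : ℕ} [Finite S] [Fact p.Prime]

/-- The commutator with an element of `L`. -/
def dev (t x : Ω) : Ω := x⁻¹ * (t * x * t⁻¹)

theorem dev_mem (hT : F.StronglyClosed T) (hL : F.StronglyClosed L) {t x : Ω} (ht : t ∈ L) (hx : x ∈ T) :
    dev t x ∈ T ⊓ L := by
  refine ⟨T.mul_mem (T.inv_mem hx) (hT.conj_mem_of_mem (hL.1 ht) hx), ?_⟩
  rw [show dev t x = x⁻¹ * t * x * t⁻¹ by rw [dev]; group]
  exact L.mul_mem (hL.conj_mem_of_mem' (hT.1 hx) ht) (L.inv_mem ht)

set_option maxHeartbeats 800000 in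
/-- At a fully normalised centric subgroup, the deviation is invariant under automorphisms of order prime to
`p`. -/
theorem dev_invariant (hS : IsPGroup p S) (hE : E.IsNormalIn F p) (hL : F.StronglyClosed L)
    (hz : T ⊓ L ≤ E.center) (hP : E.IsCentric P) (hPn : F.IsFullyNormalized P) {t : Ω} (htL : t ∈ L)
    (htN : t ∈ normalizerIn S P) (hf : E.IsIso P P f) {m : ℕ} (hm : ¬ p ∣ m)
    (hper : ∀ x ∈ P, f^[m] x = x) : ∀ x ∈ P, dev t (f x) = dev t x := by
  classical
  obtain ⟨hEs, hF, hEi⟩ := id hE.1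
  have hT := hEi.2.1
  haveI := finite_of_le hT.1
  have hPT : P ≤ T := hP.1
  have hPS : P ≤ S := hPn.1
  haveI := finite_of_le hPS
  haveI := finite_autGroup (F := F) hPS
  set Z := T ⊓ L
  have hZc : F.StronglyClosed Z := ⟨inf_le_left.trans hT.1, fun R hR ψ hψ z =>
    ⟨hT.2 R (hR.trans inf_le_left) ψ hψ z, hL.2 R (hR.trans inf_le_right) ψ hψ z⟩⟩
  have hZP : Z ≤ P := fun z hz' => hP.centralizerIn_le_self ⟨hz'.1, Subgroup.mem_centralizer_iff.mpr
    fun y hy => mem_center_comm (hz hz') (hPT hy)⟩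
  have hfZ : ∀ z ∈ Z, f z = z := fun z hz' => center_fixed hf (hz hz') (hZP hz')
  -- automorphisms fixing `Z` and trivial modulo `Z`
  let K₀ : Subgroup (F.autGroup P) :=
    { carrier := {γ | (∀ y : P, (y : Ω) ∈ Z → (γ : MulAut P) y = y) ∧
        ∀ y : P, (y : Ω)⁻¹ * ((γ : MulAut P) y : P) ∈ Z}
      one_mem' := ⟨fun y _ => rfl, fun y => by simp⟩
      mul_mem' := by
        rintro a c ⟨ha, ha'⟩ ⟨hc, hc'⟩
        refine ⟨fun y hy => ?_, fun y => ?_⟩
        · show (a : MulAut P) ((c : MulAut P) y) = y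
          rw [hc y hy, ha y hy]
        · simpa [MulAut.mul_apply, mul_assoc] using Z.mul_mem (hc' y) (ha' ((c : MulAut P) y))
      inv_mem' := by
        rintro a ⟨ha, ha'⟩
        refine ⟨fun y hy => ?_, fun y => ?_⟩
        · show (a : MulAut P)⁻¹ y = y
          conv_lhs => rw [← ha y hy]
          exact MulAut.inv_apply_self _ _ _
        · simpa [mul_assoc] using Z.inv_mem (ha' ((a : MulAut P)⁻¹ y)) }
  have hpres : ∀ (g : F.autGroup P) (y : P), (y : Ω) ∈ Z → (((g : MulAut P) y : P) : Ω) ∈ Z := by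
    intro g y hy
    obtain ⟨φ, hφ, -, he⟩ := F.exists_map_of_mem_autGroup hPS g.2
    rw [← he]
    exact hZc.apply_mem_of_mem hφ hy
  haveI : K₀.Normal := ⟨fun a ha g => ⟨fun y hy => by
      show (g : MulAut P) ((a : MulAut P) ((g : MulAut P)⁻¹ y)) = y
      exact (congrArg (g : MulAut P) (ha.1 _ (hpres g⁻¹ y hy))).trans (MulAut.apply_inv_self _ _ _),
    fun y => by
      have h := hpres g ((((g : MulAut P)⁻¹ y))⁻¹ * (a : MulAut P) ((g : MulAut P)⁻¹ y))
        (by simpa using ha.2 ((g : MulAut P)⁻¹ y))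
      simpa [MulAut.mul_apply] using h⟩⟩
  have hK₀p : IsPGroup p K₀ := by
    have hp := isPGroup_of_stabilises (hS.to_le hPS) ![⊥, Z.subgroupOf P, ⊤] rfl rfl
      (K₀.map (F.autGroup P).subtype) (by
        rintro _ ⟨a, ha, rfl⟩ i y hy
        fin_cases i
        · show y⁻¹ * (a : MulAut P) y ∈ (⊥ : Subgroup P)
          rw [ha.1 y hy, inv_mul_cancel]
          exact Subgroup.one_mem _
        · show (((y⁻¹ * (a : MulAut P) y : P)) : Ω) ∈ Z
          simpa using ha.2 y)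
    intro a
    obtain ⟨k, hk⟩ := hp ⟨_, ⟨a, a.2, rfl⟩⟩
    refine ⟨k, Subtype.ext (Subtype.ext ?_)⟩
    have := congrArg Subtype.val hk
    simpa using this
  obtain ⟨-, R, hR⟩ := hF.isFullyAutomized_of_isFullyNormalized hS hPn
  set I := autInducedBy S P
  have hK₀I : K₀.map (F.autGroup P).subtype ≤ I := by
    rintro _ ⟨a, ha, rfl⟩
    exact hR.le (le_sylow R inferInstance hK₀p ha)
  set ct := P.normalizerMonoidHom ⟨t, htN.2⟩ with hct
  have hctI : ct ∈ I := mem_autInducedBy_iff.mpr ⟨t, htN.1, htN.2, fun _ => rfl⟩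
  set A := Inn P ⊔ K₀.map (F.autGroup P).subtype ⊔ Subgroup.zpowers ct
  have hAI : A ≤ I := sup_le (sup_le (inn_le_autInducedBy hPS) hK₀I) (Subgroup.zpowers_le.mpr hctI)
  obtain ⟨β, hβ, hβe⟩ := hf.toAut
  have hβF : β ∈ F.autGroup P := hEi.1.isIso_autGroup hPT hβ
  have hctF : ct ∈ F.autGroup P := autInducedBy_le_autGroup hPS hctI
  have hβA : ∀ a ∈ A, β * a * β⁻¹ ∈ A := by
    suffices h : A ≤ A.comap (MulAut.conj β).toMonoidHom from fun a ha => h ha
    refine sup_le (sup_le (fun a ha => ?_) ?_) (Subgroup.zpowers_le.mpr ?_)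
    · exact Subgroup.mem_sup_left (Subgroup.mem_sup_left (Wedge.conj_inn β ha))
    · rintro _ ⟨a, ha, rfl⟩
      exact Subgroup.mem_sup_left (Subgroup.mem_sup_right
        ⟨⟨β, hβF⟩ * a * ⟨β, hβF⟩⁻¹, (inferInstance : K₀.Normal).conj_mem a ha _, rfl⟩)
    · show β * ct * β⁻¹ ∈ A
      have hk : (⟨β * ct * β⁻¹ * ct⁻¹, Subgroup.mul_mem _ (Subgroup.mul_mem _ (Subgroup.mul_mem _ hβF hctF)
          (Subgroup.inv_mem _ hβF)) (Subgroup.inv_mem _ hctF)⟩ : F.autGroup P) ∈ K₀ := by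
        have hval : ∀ y : P, (((β * ct * β⁻¹ * ct⁻¹) y : P) : Ω) = f (t * ((β⁻¹ (ct⁻¹ y) : P) : Ω) * t⁻¹) :=
          fun y => hβe _
        refine ⟨fun y hy => Subtype.ext ?_, fun y => ?_⟩
        · let w : P := ct⁻¹ y
          have hw : t * (w : Ω) * t⁻¹ = y := congrArg Subtype.val (MulAut.apply_inv_self _ ct y)
          have hwZ : (w : Ω) ∈ Z := by
            rw [show (w : Ω) = t⁻¹ * y * t by rw [← hw]; group]
            exact hZc.conj_mem_of_mem' htN.1 hy
          have hβw : β⁻¹ w = w := by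
            apply β.injective
            rw [MulAut.apply_inv_self]
            exact Subtype.ext ((hβe w).trans (hfZ _ hwZ)).symm
          show (((β * ct * β⁻¹ * ct⁻¹) y : P) : Ω) = y
          rw [hval, show β⁻¹ (ct⁻¹ y) = w from hβw, hw, hfZ _ hy]
        · show (y : Ω)⁻¹ * (((β * ct * β⁻¹ * ct⁻¹) y : P) : Ω) ∈ Z
          let w : P := ct⁻¹ y
          have hw : t * (w : Ω) * t⁻¹ = y := congrArg Subtype.val (MulAut.apply_inv_self _ ct y)
          let u : P := β⁻¹ w
          have hu : f u = w := (hβe u).symm.trans (congrArg Subtype.val (MulAut.apply_inv_self _ β w))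
          have huT : dev t u ∈ Z := dev_mem hT hL htL (hPT u.2)
          have hwT : dev t w ∈ Z := dev_mem hT hL htL (hPT w.2)
          rw [hval]
          show (y : Ω)⁻¹ * f (t * (u : Ω) * t⁻¹) ∈ Z
          rw [show t * (u : Ω) * t⁻¹ = u * dev t u by rw [dev]; group, hf.apply_mul u.2 (hZP huT), hu,
            hfZ _ huT, ← hw, show (t * (w : Ω) * t⁻¹)⁻¹ * ((w : Ω) * dev t u) = (dev t w)⁻¹ * dev t u by
              simp only [dev]; group]
          exact Z.mul_mem (Z.inv_mem hwT) huT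
      have : β * ct * β⁻¹ = (β * ct * β⁻¹ * ct⁻¹) * ct := by group
      rw [this]
      exact Subgroup.mul_mem _ (Subgroup.mem_sup_left (Subgroup.mem_sup_right ⟨_, hk, rfl⟩))
        (Subgroup.mem_sup_right (Subgroup.mem_zpowers ct))
  set V := Wedge.pre S P A
  have hanch : Wedge.Anchor F P P := ⟨hPn, le_rfl, le_normalizerIn hPS,
    fun _ _ _ hU x hx => (hU _).mpr ⟨x, hx, rfl⟩⟩
  have hfc := hF.isFullyCentralized_of_isFullyNormalized hS hPn
  obtain ⟨g, hg, hgf, -, hgT⟩ := Wedge.key_extension hS hF hEs hEi hPT hanch hPT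
    (Wedge.hasLifts hS hE hP hfc) ⟨f, hf, fun _ _ => rfl⟩ hf hm hper (V := V) Wedge.pre_le
    (Wedge.self_le_pre hPS (le_sup_left.trans le_sup_left)) Wedge.cent_le_pre (by
      intro v hv
      obtain ⟨-, hn, hvA⟩ := Wedge.mem_pre.mp hv
      obtain ⟨v', hv', hv'e⟩ := Wedge.mem_pre_of_induced (hβA _ hvA) (hAI (hβA _ hvA))
      refine ⟨v', hv', fun x hx => ?_⟩
      let y : P := β ⟨x, hx⟩
      have h1 := hv'e y
      rw [MulAut.mul_apply, MulAut.mul_apply, hβe, show β⁻¹ y = ⟨x, hx⟩ from MulAut.inv_apply_self _ β _] at h1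
      rw [← hβe ⟨x, hx⟩]
      exact h1)
  have htV : t ∈ V := Wedge.mem_pre.mpr ⟨htN.1, htN.2, Subgroup.mem_sup_right (Subgroup.mem_zpowers ct)⟩
  have hPV : P ≤ V := Wedge.self_le_pre hPS (le_sup_left.trans le_sup_left)
  intro x hx
  set l := t⁻¹ * g t with hl
  have hlZ : l ∈ Z := ⟨hgT t htV, L.mul_mem (L.inv_mem htL) (hL.iso_mem hg htV htL)⟩
  have hd : dev t x ∈ Z := dev_mem hT hL htL (hPT hx)
  have h1 : g (t * x * t⁻¹) = f x * dev t x := by
    rw [show t * x * t⁻¹ = x * dev t x by rw [dev]; group, hg.apply_mul (hPV hx) (hPV (hZP hd)), hgf x hx,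
      hgf _ (hZP hd), hfZ _ hd]
  have hcom : l * f x = f x * l := (mem_center_comm (hz hlZ) (hPT (hf.mem hx))).symm
  have h2 : g (t * x * t⁻¹) = t * f x * t⁻¹ := by
    rw [hg.apply_conj htV (hPV hx), hgf x hx, show g t = t * l by rw [hl, mul_inv_cancel_left],
      show t * l * f x * (t * l)⁻¹ = t * (l * f x) * l⁻¹ * t⁻¹ by group, hcom]
    group
  show (f x)⁻¹ * (t * f x * t⁻¹) = dev t x
  rw [← h2, h1, inv_mul_cancel_left]

/-- **The carrier commutes with `L`.** -/
theorem commute_of_hyperfocal (hS : IsPGroup p S) (hE : E.IsNormalIn F p) (hL : F.StronglyClosed L)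
    (hz : T ⊓ L ≤ E.center) (hhyp : E.hyperfocalSubgroup p = T) : ∀ a ∈ T, ∀ b ∈ L, a * b = b * a := by
  classical
  obtain ⟨hEs, hF, hEi⟩ := id hE.1
  have hT := hEi.2.1
  haveI := finite_of_le hT.1
  have hTp : IsPGroup p T := hS.to_le hT.1
  intro a ha t ht
  have hdev : ∀ {x y : Ω}, x ∈ T → y ∈ T → dev t (x * y) = dev t x * dev t y := by
    intro x y hx hy
    have hc := mem_center_comm (hz (dev_mem hT hL ht hx)) hy
    calc dev t (x * y) = y⁻¹ * (dev t x * y) * (y⁻¹ * (t * y * t⁻¹)) := by simp only [dev]; group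
      _ = dev t x * dev t y := by rw [← hc, inv_mul_cancel_left]; rfl
  let G : FusionSystem T :=
    { Hom := fun P => {φ | φ ∈ E.Hom P ∧ ∀ x : P, dev t (φ x) = dev t x}
      le_of_mem := fun h => E.le_of_mem h.1
      injective_of_mem := fun h => E.injective_of_mem h.1
      conj_mem := fun {P g} hP hg => ⟨E.conj_mem hP hg, fun x => by
        show dev t (g * (x : Ω) * g⁻¹) = _
        have h1 : dev t g * dev t g⁻¹ = 1 := by
          rw [← hdev hg (T.inv_mem hg), mul_inv_cancel]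
          simp [dev]
        rw [hdev (T.mul_mem hg (hP x.2)) (T.inv_mem hg), hdev hg (hP x.2),
          (mem_center_comm (hz (dev_mem hT hL ht (hP x.2))) (dev_mem hT hL ht hg).1),
          mul_assoc, h1, mul_one]⟩
      comp_mem := fun {P Q φ ψ} hφ hψ h => ⟨E.comp_mem hφ.1 hψ.1 h, fun x => (hψ.2 ⟨φ x, h x⟩).trans (hφ.2 x)⟩
      inv_mem := fun {P φ} hφ => by
        obtain ⟨i, hi, hie⟩ := E.inv_mem hφ.1
        refine ⟨i, ⟨hi, ?_⟩, hie⟩
        rintro ⟨_, x, rfl⟩
        rw [hie]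
        exact (hφ.2 x).symm }
  have hle : E ≤ G := by
    refine hEs.le_of_autGroup_le' hTp G fun P hP _ => ?_
    have hPc : E.IsCentric P := by
      rcases hP with rfl | hP
      exacts [isCentric_self, hP.1]
    have hPT : P ≤ T := hPc.1
    haveI := finite_of_le hPT
    haveI := finite_autGroup (F := E) hPT
    have hPn : E.IsFullyNormalized P := by
      rcases hP with rfl | hP
      exacts [isFullyNormalized_self, hP.2.1]
    obtain ⟨-, R, hR⟩ := hEs.isFullyAutomized_of_isFullyNormalized hTp hPn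
    refine Subgroup.subgroupOf_eq_top.mp (eq_top_of_sylow_of_pprime _ R
      (fun α hα => (autInducedBy_le_autGroup hPT (hR.le hα) : (α : MulAut P) ∈ G.autGroup P)) fun α hα => ?_)
    obtain ⟨φ, hφ, hr, hφe⟩ := E.exists_map_of_mem_autGroup hPT α.2
    refine G.mem_autGroup_of_map (φ := φ) ⟨hφ, fun x => ?_⟩ fun x => (hφe x).symm
    have hfE : E.IsIso P P (funOf φ) := by
      have := isIso_funOf hφ
      rwa [hr] at this
    have hper : ∀ x ∈ P, (funOf φ)^[orderOf α] x = x := fun x hx => by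
      rw [← coe_pow_apply (fun y => (hφe y).symm.trans (funOf_apply φ y)) _ ⟨x, hx⟩, ← Subgroup.orderOf_coe,
        pow_orderOf_eq_one]
      rfl
    have htP : t ∈ normalizerIn S P := by
      refine ⟨hL.1 ht, ?_⟩
      have key : ∀ s ∈ L, ∀ y ∈ P, s * y * s⁻¹ ∈ P := fun s hs y hy => by
        rw [show s * y * s⁻¹ = y * dev s y by rw [dev]; group]
        exact P.mul_mem hy (hPc.centralizerIn_le_self ⟨(dev_mem hT hL hs (hPT hy)).1,
          Subgroup.mem_centralizer_iff.mpr fun w hw => mem_center_comm (hz (dev_mem hT hL hs (hPT hy))) (hPT hw)⟩)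
      show t ∈ Subgroup.normalizer (P : Set Ω)
      rw [Subgroup.mem_normalizer_iff]
      exact fun y => ⟨key t ht y, fun hy => by simpa [mul_assoc] using key t⁻¹ (L.inv_mem ht) _ hy⟩
    obtain ⟨P₀, hPP₀, hP₀⟩ := F.exists_isFullyNormalized (hPT.trans hT.1)
    obtain ⟨φ₁, hφ₁, hr₁, ψ, hψ, hψN, hψe⟩ := hF.exists_map_to_fullyNormalized hS hP₀ hPP₀
    have hPN : P ≤ normalizerIn S P := le_normalizerIn (hPT.trans hT.1)
    have hH := isIso_funOf hψ
    have hHP : F.IsIso P P₀ (funOf ψ) := by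
      refine ⟨φ₁, hφ₁, hr₁, fun x => ?_⟩
      rw [← hψe x (hPN x.2)]
      exact funOf_apply ψ _
    have himg : ∀ y, y ∈ P₀ ↔ ∃ x ∈ P, funOf ψ x = y :=
      fun y => ⟨hHP.surj, fun ⟨x, hx, he⟩ => he ▸ hHP.mem hx⟩
    obtain ⟨f₀, hf₀, hf₀e⟩ := hEi.iso_transport hHP hPT hfE le_rfl le_rfl himg himg
    have hper₀ : ∀ y ∈ P₀, f₀^[orderOf α] y = y := fun y hy => by
      obtain ⟨z, hz', rfl⟩ := hHP.surj hy
      rw [iterate_semiconj hf₀e (fun z hz' => hfE.mem hz') _ hz', hper z hz']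
    have ht₀ : funOf ψ t ∈ normalizerIn S P₀ := by
      rw [← funOf_apply ψ ⟨t, htP⟩]
      exact hψN _
    have hinv := dev_invariant hS hE hL hz (hEi.isCentric_of_isIso hPc hHP) hP₀
      (hL.iso_mem hH htP ht) ht₀ hf₀ hα hper₀
    have hmap : ∀ y ∈ P, dev (funOf ψ t) (funOf ψ y) = funOf ψ (dev t y) := fun y hy => by
      have hconj : t * y * t⁻¹ ∈ normalizerIn S P := hPN ((Subgroup.mem_normalizer_iff.mp htP.2 y).mp hy)
      simp only [dev]
      rw [hH.apply_mul ((normalizerIn S P).inv_mem (hPN hy)) hconj, hH.apply_inv (hPN hy),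
        hH.apply_conj htP (hPN hy)]
    have hdP : ∀ y ∈ P, dev t y ∈ normalizerIn S P := fun y hy => by
      refine hPN ?_
      show y⁻¹ * (t * y * t⁻¹) ∈ P
      exact P.mul_mem (P.inv_mem hy) ((Subgroup.mem_normalizer_iff.mp htP.2 y).mp hy)
    rw [funOf_apply φ x]
    refine hH.inj (hdP _ (hfE.mem x.2)) (hdP _ x.2) ?_
    rw [← hmap _ (hfE.mem x.2), ← hmap _ x.2, ← hf₀e x x.2, hinv _ (hHP.mem x.2)]
  have hsub : T ≤ T ⊓ Subgroup.centralizer {t} := by
    conv_lhs => rw [← hhyp]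
    rw [hyperfocalSubgroup_le_iff]
    intro P hP α hα _ x
    refine ⟨T.mul_mem (T.inv_mem (hP x.2)) (hP (α x).2), Subgroup.mem_centralizer_singleton_iff.mpr ?_⟩
    obtain ⟨φ, hφ, -, he⟩ := E.exists_map_of_mem_autGroup hP hα
    have h1 := (hle P hφ).2 x
    rw [he] at h1
    have h2 : dev t ((x : Ω)⁻¹ * (α x : P)) = 1 := by
      rw [hdev (T.inv_mem (hP x.2)) (hP (α x).2), h1, ← hdev (T.inv_mem (hP x.2)) (hP x.2), inv_mul_cancel]
      simp [dev]
    set y := (x : Ω)⁻¹ * (α x : P)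
    have h3 : t * y * t⁻¹ = y := by
      have := congrArg (y * ·) h2
      simpa [dev] using this
    calc y * t = t * y * t⁻¹ * t := by rw [h3]
      _ = t * y := by group
  exact Subgroup.mem_centralizer_singleton_iff.mp (hsub ha).2

end Cfsg.FusionSystem.Layer
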