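import Cfsg.Agent.Lib.Fusion.Layer.Fitting
import Cfsg.Agent.Lib.Fusion.Layer.Commute
import Cfsg.Agent.Lib.Fusion.ResidualReduction.Compose
import Cfsg.Agent.Lib.Fusion.TransportComponent

/-!
The least normal subsystem containing given components is its own layer.
-/

set_option autoImplicit false
set_option linter.unusedSectionVars false
set_option linter.style.haveILetI false

namespace Cfsg.FusionSystem.Layer

universe u

variable {Ω : Type u} [Group Ω] {S T U : Subgroup Ω} {F : FusionSystem S}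
  {N : FusionSystem T} {C : FusionSystem U} {p : ℕ}

/-- Hyperfocal subgroups grow with the system. -/
theorem hyperfocal_le (h : C.IsSubsystemOf N) : C.hyperfocalSubgroup p ≤ N.hyperfocalSubgroup p :=
  hyperfocalSubgroup_le_iff.mpr fun _ hP _ hα hp x =>
    hyperfocal_gen_mem (hP.trans (le_of_isSubsystemOf h)) (h.isIso_autGroup hP hα) hp x

/-- Centralizing maps grow with the system. -/
theorem centralizerHom_le (h : N.IsSubsystemOf F) {X P : Subgroup Ω} :
    N.centralizerHom X P ⊆ F.centralizerHom X P := by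
  rintro φ ⟨h1, h2, h3, ψ, hψ, he, hfix⟩
  have hC : centralizerIn T X ≤ centralizerIn S X := fun x hx => ⟨le_of_isSubsystemOf h hx.1, hx.2⟩
  exact ⟨h P h1, h2.trans hC, fun x => hC (h3 x), ψ, h _ hψ, he, hfix⟩

variable [Finite S] [Fact p.Prime]

/-- The least normal subsystem containing some components equals its layer. -/
theorem layer_self (hS : IsPGroup p S) (hF : F.IsSaturated p) {𝒞 : ∀ ⦃U : Subgroup Ω⦄, FusionSystem U → Prop}
    (h𝒞 : ∀ (U : Subgroup Ω) (C : FusionSystem U), 𝒞 C → C.IsComponentIn F p)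
    (hN : IsLeast 𝒞 N F p) : N.IsLayerOf N p := by
  classical
  obtain ⟨hNs, -, hNi⟩ := id hN.1.1
  have hTS : T ≤ S := hNi.2.1.1
  haveI := finite_of_le hTS
  have hTp : IsPGroup p T := hS.to_le hTS
  obtain ⟨TL, L, hL⟩ := exists_layer hTp hNs
  have hTL : TL ≤ T := hL.1.1.2.2.2.1.1
  haveI := finite_of_le (hTL.trans hTS)
  -- automorphisms of the carrier permute the layer
  have hmor : ∀ β ∈ F.autGroup T, N.IsMorphism N (T.subtype.comp β.toMonoidHom) := by
    intro β hβ
    refine ⟨fun u => SetLike.coe_mem _, fun P φ hφ => ?_⟩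
    obtain ⟨χ, hχ, hχe⟩ := hNi.strongInvariance P T (N.source_le hφ) le_rfl φ hφ (N.apply_mem hφ) _
      ((F.mem_autGroup_iff hTS).mp hβ)
    exact ⟨χ, hχ, N.source_le hφ, N.apply_mem hφ, fun x => ⟨⟨x, N.source_le hφ x.2⟩, x.2, rfl⟩,
      fun x => hχe x _⟩
  have himage : ∀ {β : MulAut T} {a : Ω → Ω}, (∀ x : T, ((β x : T) : Ω) = a x) → ∀ {P : Subgroup Ω}, P ≤ T →
      ∀ y, y ∈ imageAlong (T.subtype.comp β.toMonoidHom) P ↔ ∃ x ∈ P, a x = y := by
    intro β a hβe P hP y
    constructor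
    · rintro ⟨x, hx, rfl⟩
      exact ⟨x, hx, (hβe x).symm⟩
    · rintro ⟨x, hx, rfl⟩
      exact ⟨⟨x, hP hx⟩, hx, hβe _⟩
  have hLi : L.IsInvariantIn F := by
    refine IsInvariantIn.trans hF hS hNi hL.1.1.2.2 (fun a ha x hx => ?_) ?_
    · obtain ⟨β, hβ, hβe⟩ := ha.toAut
      obtain ⟨h1, -⟩ := IsLayerOf.characteristic hTp β (hmor β hβ) (hmor β⁻¹ ((F.autGroup T).inv_mem hβ)) hL
      exact h1.le ((himage hβe hTL _).mpr ⟨x, hx, rfl⟩)
    · intro a P Q f ha hf P' Q' hP' hQ'
      obtain ⟨β, hβ, hβe⟩ := ha.toAut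
      obtain ⟨-, h2⟩ := IsLayerOf.characteristic hTp β (hmor β hβ) (hmor β⁻¹ ((F.autGroup T).inv_mem hβ)) hL
      obtain ⟨φ, hφ, hr, hφe⟩ := hf
      have hPT : P ≤ T := (L.source_le hφ).trans hTL
      obtain ⟨φ', hi⟩ := exists_inducedAlong (θ := T.subtype.comp β.toMonoidHom) (S₀ := ⊥) (F := N)
        (fun s => by
          rw [Subgroup.mem_bot]
          constructor
          · intro h
            have : β s = 1 := Subtype.ext h
            rw [map_eq_one_iff β β.injective] at this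
            rw [this]; rfl
          · intro h
            rw [show s = 1 from Subtype.ext h, map_one])
        stronglyClosed_bot (hL.1.1.2.2.1 P hφ)
      have hφ' := h2 P φ hφ φ' hi
      obtain ⟨hP, hφT, hm, he⟩ := hi
      have hPP : imageAlong (T.subtype.comp β.toMonoidHom) P = P' :=
        SetLike.ext fun y => by rw [himage hβe hPT, hP']
      have hfP : ∀ x ∈ P, funOf φ' (a x) = a (f x) := fun x hx => by
        have h1 : φ' ⟨_, hm ⟨x, hx⟩⟩ = ((β ⟨φ ⟨x, hx⟩, hφT ⟨x, hx⟩⟩ : T) : Ω) := he ⟨x, hx⟩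
        have e1 : ((T.subtype.comp β.toMonoidHom) ⟨x, hP hx⟩ : Ω) = a x := hβe _
        calc funOf φ' (a x) = funOf φ' ((T.subtype.comp β.toMonoidHom) ⟨x, hP hx⟩) := congrArg _ e1.symm
          _ = φ' ⟨_, hm ⟨x, hx⟩⟩ := (funOf_apply φ' ⟨_, hm ⟨x, hx⟩⟩).symm
          _ = ((β ⟨φ ⟨x, hx⟩, hφT ⟨x, hx⟩⟩ : T) : Ω) := h1
          _ = a (φ ⟨x, hx⟩) := hβe _
          _ = a (f x) := congrArg a (hφe ⟨x, hx⟩)
      have hQQ : φ'.range = Q' := SetLike.ext fun y => by
        rw [hQ']
        constructor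
        · rintro ⟨⟨z, hz⟩, rfl⟩
          obtain ⟨x, hx, rfl⟩ := (himage hβe hPT z).mp hz
          refine ⟨f x, hr.le ⟨⟨x, hx⟩, hφe _⟩, ?_⟩
          rw [funOf_apply φ']
          exact (hfP x hx).symm
        · rintro ⟨z, hz, rfl⟩
          obtain ⟨⟨x, hx⟩, hxz⟩ := hr.ge hz
          refine ⟨⟨a x, (himage hβe hPT _).mpr ⟨x, hx, rfl⟩⟩, ?_⟩
          rw [funOf_apply φ', hfP x hx, ← hφe ⟨x, hx⟩, hxz]
      have key : ∀ {A B A' B' : Subgroup Ω} {g : Ω → Ω}, A = A' → B = B' → L.IsIso A B g → L.IsIso A' B' g := by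
        rintro A B A' B' g rfl rfl h
        exact h
      exact ⟨funOf φ', key hPP hQQ (isIso_funOf hφ'), hfP⟩
  have hLw : L.IsWeaklyNormalIn F p := ⟨hL.1.1.1, hF, hLi⟩
  have hTLp : IsPGroup p TL := hS.to_le (hTL.trans hTS)
  have h1 : N.IsSubsystemOf (PrimeResidual.residual hTLp hLw.1) := by
    refine hN.2.2 _ _ (PrimeResidual.residual_isNormalIn hS hTLp hLw) fun U C hC => ?_
    refine component_residual hS hTLp hLw (h𝒞 U C hC) ?_
    exact le_of_isSubsystemOf (hL.2.1 U C
      (component_of_le hS hF (h𝒞 U C hC) hN.1 (le_of_isSubsystemOf (hN.2.1 U C hC))))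
  exact eq_rec_of_subsystem (prop := fun {_} G => G.IsLayerOf N p) hL.1.1.2.2.1
    (fun P φ hφ => PrimeResidual.residual_le P (h1 P hφ)) hL

/-- A system equal to its layer has its largest normal subgroup in its centre. -/
theorem core_le_center_of_self (hS : IsPGroup p S) (hF : F.IsSaturated p) (hself : F.IsLayerOf F p) :
    F.core ≤ F.center :=
  (isCentral_of_centralized hS hF le_rfl (FusionSystem.isNormal_core F).1
    (Cfsg.Agent.S5150.result p hS F hF F hself)).le_center

/-- In a system equal to its layer, abelian strongly closed subgroups are central. -/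
theorem abelian_le_center_of_self (hS : IsPGroup p S) (hF : F.IsSaturated p) (hself : F.IsLayerOf F p)
    {Z : Subgroup Ω} (hZ : F.StronglyClosed Z) (hab : ∀ x ∈ Z, ∀ y ∈ Z, x * y = y * x) : Z ≤ F.center := by
  refine ((isNormal_of_abelian hS hF hZ ?_).le_core).trans (core_le_center_of_self hS hF hself)
  rw [Subgroup.commutator_eq_bot_iff_le_centralizer]
  exact fun x hx => Subgroup.mem_centralizer_iff.mpr fun y hy => hab y hy x hx

/-- A system equal to its layer is over its hyperfocal subgroup. -/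
theorem hyperfocal_eq_of_self (hS : IsPGroup p S) (hF : F.IsSaturated p) (hself : F.IsLayerOf F p) :
    F.hyperfocalSubgroup p = S := by
  obtain ⟨E, hEs, hidx⟩ := hF.exists_pPowerIndex hS (T := F.hyperfocalSubgroup p) hyperfocalSubgroup_le le_rfl
  have hEn : E.IsNormalIn F p :=
    hF.isNormalIn_of_pPowerIndex hS hEs hyperfocalSubgroup_le normal_hyperfocal hidx
  refine le_antisymm hyperfocalSubgroup_le (le_of_isSubsystemOf (hself.2.2 _ E hEn fun U C hC => ?_))
  have hle : U ≤ F.hyperfocalSubgroup p := by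
    conv_lhs => rw [← hC.2.2.1]
    exact hyperfocal_le (Components.subnormal_basic hC.1).2.1
  exact (Components.subnormal_basic (component_of_le hS hF hC hEn hle).1).2.1

end Cfsg.FusionSystem.Layer
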