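import Cfsg.Agent.Lib.Fusion.Layer.Image

/-!
Normal subsystems of quasisimple systems, and components against normal subsystems.
-/

set_option autoImplicit false
set_option linter.unusedSectionVars false
set_option linter.style.haveILetI false

namespace Cfsg.FusionSystem.Layer

open Cfsg.FusionSystem.SubCent (eq_top_of_sylow_of_pprime eq_one_of_coprime_pow)

universe u

variable {Ω : Type u} [Group Ω] {S T U : Subgroup Ω} {F : FusionSystem S} {E : FusionSystem T}
  {C : FusionSystem U} {p : ℕ}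

variable [Finite S] [Fact p.Prime]

/-- A normal subsystem of a quasisimple system is central or everything. -/
theorem dichotomy (hS : IsPGroup p S) (hq : F.Quasisimple p) (hE : E.IsNormalIn F p) :
    T ≤ F.center ∨ F.IsSubsystemOf E := by
  classical
  obtain ⟨hF, hhyp, hsimple⟩ := id hq
  obtain ⟨hEs, -, hEi⟩ := id hE.1
  have hTS : T ≤ S := hEi.2.1.1
  have hZc : F.IsCentral F.center := isCentral_center F
  set Z := F.center.subgroupOf S
  set θ := QuotientGroup.mk' Z
  have hker : ∀ s : S, θ s = 1 ↔ (s : Ω) ∈ F.center := fun s => QuotientGroup.eq_one_iff s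
  have hsc : F.StronglyClosed F.center := hZc.isNormal.stronglyClosed
  have hex : ∀ W : Subgroup (S ⧸ Z), θ.range = W → ∃ F' : FusionSystem W, F.IsFactorSystem F.center θ F' := by
    rintro W rfl
    exact ⟨factorSystem F.center F θ hker hsc, hZc.le, hker, rfl, fun P' φ' => Iff.rfl⟩
  obtain ⟨F', hfac⟩ := hex ⊤ (QuotientGroup.range_mk' _)
  obtain ⟨hF's, hne, hmin⟩ := hsimple F' hfac
  obtain ⟨hT, E', hE'w, hE'⟩ := exists_image hS hZc hfac hE.1
  have hp' : IsPGroup p (⊤ : Subgroup (S ⧸ Z)) := (hS.to_quotient Z).to_subgroup _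
  haveI : Finite (⊤ : Subgroup (S ⧸ Z)) := inferInstance
  haveI : Finite ↥(imageAlong θ T) := inferInstance
  have hp'' : IsPGroup p ↥(imageAlong θ T) := (hS.to_quotient Z).to_subgroup _
  have hres := PrimeResidual.residual_isNormalIn hp' hp'' hE'w
  rcases hmin _ _ hres with h | ⟨htop, hall⟩
  · left
    intro x hx
    refine (hker ⟨x, hTS hx⟩).mp (Subgroup.mem_bot.mp (h ▸ ?_))
    exact ⟨⟨x, hTS hx⟩, hx, rfl⟩
  right
  -- the carrier is everything
  have hTZ : ∀ x ∈ S, ∃ t ∈ T, t⁻¹ * x ∈ F.center := by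
    intro x hx
    obtain ⟨t, ht, hte⟩ : θ ⟨x, hx⟩ ∈ imageAlong θ T := htop.symm ▸ Subgroup.mem_top _
    refine ⟨t, ht, (hker (t⁻¹ * ⟨x, hx⟩)).mp ?_⟩
    rw [map_mul, map_inv, hte, inv_mul_cancel]
  have hST : S ≤ T := by
    rw [← hhyp, hyperfocalSubgroup_le_iff]
    intro P hP α hα _ x
    obtain ⟨f, hf, hfe⟩ := isIso_of_aut hP hα
    obtain ⟨φ, hφ, hr, hφe⟩ := hf
    obtain ⟨ψ, hψ, hψe, hψZ⟩ := hZc.2 P φ hφ
    obtain ⟨t, ht, htx⟩ := hTZ x (hP x.2)
    have htm : t ∈ P ⊔ F.center := by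
      have : (x : Ω) * (t⁻¹ * x)⁻¹ ∈ P ⊔ F.center :=
        Subgroup.mul_mem _ (Subgroup.mem_sup_left x.2) (Subgroup.inv_mem _ (Subgroup.mem_sup_right htx))
      simpa using this
    have hψi := isIso_funOf hψ
    have h1 : f x = funOf ψ x := by
      rw [← hφe x, ← hψe x]
      exact funOf_apply ψ (Subgroup.inclusion le_sup_left x)
    have h2 : funOf ψ (t⁻¹ * x) = t⁻¹ * x := (funOf_apply ψ ⟨_, Subgroup.mem_sup_right htx⟩).symm.trans
      (hψZ ⟨_, htx⟩)
    have hψT : funOf ψ t ∈ T := hEi.2.1.iso_mem hψi htm ht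
    have h3 : funOf ψ x = funOf ψ t * (t⁻¹ * x) := by
      conv_lhs => rw [show (x : Ω) = t * (t⁻¹ * x) by group]
      rw [hψi.apply_mul htm (Subgroup.mem_sup_right htx), h2]
    have hc : funOf ψ t * (t⁻¹ * x) = (t⁻¹ * x) * funOf ψ t := mem_center_comm htx (hTS hψT)
    rw [hfe, h1, h3, hc, show (x : Ω)⁻¹ * (t⁻¹ * x * funOf ψ t) = (x : Ω)⁻¹ * t⁻¹ * x * funOf ψ t by group]
    refine T.mul_mem ?_ hψT
    exact hEi.2.1.conj_mem_of_mem' (hP x.2) (T.inv_mem ht)
  obtain rfl : T = S := le_antisymm hTS hST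
  have hle : F ≤ E := hF.le_of_autGroup_le' hS E fun P hP _ => by
    have hPc : F.IsCentric P := by
      rcases hP with rfl | hP
      exacts [isCentric_self, hP.1]
    have hPS : P ≤ T := hPc.1
    have hZP : F.center ≤ P := fun z hz => hPc.centralizerIn_le_self
      ⟨hZc.le hz, Subgroup.mem_centralizer_iff.mpr fun y hy => mem_center_comm hz (hPS hy)⟩
    haveI := finite_of_le hPS
    haveI := finite_mulAut_of_le hPS
    have hPn : F.IsFullyNormalized P := by
      rcases hP with rfl | hP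
      exacts [isFullyNormalized_self, hP.2.1]
    obtain ⟨-, R, hR⟩ := hF.isFullyAutomized_of_isFullyNormalized hS hPn
    let A : Subgroup (F.autGroup P) := (E.autGroup P).subgroupOf (F.autGroup P)
    haveI : A.Normal := ⟨fun a ha b => Wedge.autGroup_conj hEi hPS b.2 ha⟩
    refine Subgroup.subgroupOf_eq_top.mp (eq_top_of_sylow_of_pprime A R
      (fun a ha => autInducedBy_le_autGroup hPS (hR.le ha)) fun a ha => ?_)
    obtain ⟨φ, hφ, hr, hφe⟩ := F.exists_map_of_mem_autGroup hPS a.2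
    obtain ⟨φ', hφ', hi⟩ := (Cfsg.Agent.S5134.result p hS F hF F.center hsc θ F' hfac).1.2 P φ hφ
    rw [← hall] at hφ'
    obtain ⟨hP', χ, hχ, hiχ⟩ := (hE'.2.2.2 _ _).mp (PrimeResidual.residual_le _ hφ')
    have hpre : preimageAlong (θ.comp (Subgroup.inclusion hT)) (imageAlong θ P) = P := by
      ext x
      constructor
      · intro hx
        obtain ⟨hxS, y, hy, hye⟩ := mem_preimageAlong.mp hx
        have h1 : θ (y⁻¹ * ⟨x, hxS⟩) = 1 := by
          rw [map_mul, map_inv, hye]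
          exact inv_mul_cancel _
        have := P.mul_mem hy (hZP ((hker _).mp h1))
        simpa using this
      · exact fun hx => mem_preimageAlong.mpr ⟨hPS hx, ⟨x, hPS hx⟩, hx, rfl⟩
    have hχr : ∀ x : P, θ ⟨χ ⟨x, hpre.ge x.2⟩, E.apply_mem hχ _⟩ = θ ⟨φ x, F.apply_mem hφ x⟩ := fun x => by
      have hm : θ ⟨x, hPS x.2⟩ ∈ imageAlong θ P := ⟨⟨x, hPS x.2⟩, x.2, rfl⟩
      exact (inducedAlong_apply_mem hχ hiχ ⟨x, hpre.ge x.2⟩ hm).symm.trans
        (inducedAlong_apply_mem hφ hi x hm)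
    have hχE := E.restrict_mem hχ hpre.ge
    set χ₀ := χ.comp (Subgroup.inclusion hpre.ge)
    have hχP : χ₀.range = P := by
      haveI := finite_of_le hPS
      refine Subgroup.eq_of_le_of_card_ge ?_ (Nat.card_congr
        (MonoidHom.ofInjective (E.injective_of_mem hχE)).toEquiv).le
      rintro _ ⟨x, rfl⟩
      have h1 : θ (⟨φ x, F.apply_mem hφ x⟩⁻¹ * ⟨χ₀ x, E.apply_mem hχE x⟩) = 1 := by
        rw [map_mul, map_inv, ← hχr x]
        exact inv_mul_cancel _
      have := P.mul_mem (hr.le ⟨x, rfl⟩ : φ x ∈ P) (hZP ((hker _).mp h1))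
      simpa using this
    obtain ⟨β, hβ, hβe⟩ := (show E.IsIso P P (funOf χ₀) by have := isIso_funOf hχE; rwa [hχP] at this).toAut
    have hβF : β ∈ F.autGroup P := hEi.1.isIso_autGroup hPS hβ
    set κ : MulAut P := β⁻¹ * (a : MulAut P)
    have hκz : ∀ x : P, (x : Ω) ∈ F.center → κ x = x := by
      intro x hx
      obtain ⟨g, hg, hge⟩ := isIso_of_aut hPS ((F.autGroup P).mul_mem ((F.autGroup P).inv_mem hβF) a.2)
      exact Subtype.ext ((hge x).trans (center_fixed hg hx x.2))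
    have hκd : ∀ x : P, (x : Ω)⁻¹ * (κ x : P) ∈ F.center := by
      intro x
      let y : P := κ x
      have h0 : β y = (a : MulAut P) x := by simp [y, κ]
      have h1 : θ (⟨x, hPS x.2⟩⁻¹ * ⟨y, hPS y.2⟩) = 1 := by
        rw [map_mul, map_inv, inv_mul_eq_one]
        obtain ⟨g, hg, hge⟩ := isIso_of_aut hPS hβF
        have h2 : θ ⟨φ y, F.apply_mem hφ y⟩ = θ ⟨φ x, F.apply_mem hφ x⟩ := by
          rw [← hχr y]
          congr 1
          apply Subtype.ext
          show χ₀ y = φ x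
          rw [funOf_apply χ₀ y, ← hβe y, h0, hφe]
        have h3 : θ (⟨φ x, F.apply_mem hφ x⟩⁻¹ * ⟨φ y, F.apply_mem hφ y⟩) = 1 := by
          rw [map_mul, map_inv, h2, inv_mul_cancel]
        have h4 : φ (x⁻¹ * y) ∈ F.center := by
          rw [map_mul, map_inv]
          exact (hker _).mp h3
        obtain ⟨i, hi', -, hil, -⟩ := F.exists_inv hφ rfl
        have h5 := hsc.apply_mem_of_mem hi' (x := (⟨φ (x⁻¹ * y), _, rfl⟩ : φ.range)) h4
        erw [hil (x⁻¹ * y) ⟨_, rfl⟩] at h5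
        have h6 := (hker ⟨_, hPS (x⁻¹ * y).2⟩).mpr h5
        rw [show (⟨((x⁻¹ * y : P) : Ω), hPS (x⁻¹ * y).2⟩ : T) = ⟨x, hPS x.2⟩⁻¹ * ⟨y, hPS y.2⟩ from rfl,
          map_mul, map_inv, inv_mul_eq_one] at h6
        exact h6
      exact (hker _).mp h1
    have hκpow : ∀ n : ℕ, ∀ x : P, ((κ ^ n) x : P) = x * (x⁻¹ * κ x) ^ n := by
      intro n
      induction n with
      | zero => simp
      | succ n ih =>
        intro x
        have hc : κ (x⁻¹ * κ x) = x⁻¹ * κ x := hκz _ (hκd x)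
        rw [pow_succ', MulAut.mul_apply, ih, map_mul, map_pow, hc, pow_succ', ← mul_assoc]
        simp
    obtain ⟨e, he⟩ : ∃ e, κ ^ p ^ e = 1 := by
      obtain ⟨n, hn⟩ := IsPGroup.iff_card.mp (hS.to_le hPS)
      refine ⟨n, MulEquiv.ext fun x => ?_⟩
      rw [hκpow, ← hn, pow_card_eq_one', mul_one]
      rfl
    let κ' : F.autGroup P := ⟨κ, (F.autGroup P).mul_mem ((F.autGroup P).inv_mem hβF) a.2⟩
    have hq : (a : F.autGroup P ⧸ A) = κ' := by
      rw [QuotientGroup.eq]
      show (((a⁻¹ * κ' : F.autGroup P)) : MulAut P) ∈ E.autGroup P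
      have h2 := (inferInstance : A.Normal).conj_mem ⟨β⁻¹, (F.autGroup P).inv_mem hβF⟩
        ((E.autGroup P).inv_mem hβ : (⟨β⁻¹, _⟩ : F.autGroup P) ∈ A) a⁻¹
      simpa [κ', κ, A, Subgroup.mem_subgroupOf, mul_assoc] using h2
    refine (QuotientGroup.eq_one_iff a).mp (eq_one_of_coprime_pow (a := orderOf a) (k := p ^ e)
      (by rw [← QuotientGroup.mk_pow, pow_orderOf_eq_one]; rfl)
      (by rw [hq, ← QuotientGroup.mk_pow,
            show κ' ^ p ^ e = 1 from Subtype.ext (by simpa [κ'] using he)]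
          rfl)
      (((Nat.Prime.coprime_iff_not_dvd (Fact.out : p.Prime)).mpr ha).symm.pow_right e))
  exact fun P => hle P

/-- A component against a normal subsystem. -/
theorem component_or_central (hC : C.IsSubnormalIn F p) :
    ∀ [Finite S] [Fact p.Prime], IsPGroup p S → F.IsSaturated p → C.Quasisimple p →
      ∀ {T : Subgroup Ω} {E : FusionSystem T}, E.IsNormalIn F p → C.IsSubnormalIn E p ∨ U ⊓ T ≤ C.center := by
  suffices key : ∀ [Finite S] [Fact p.Prime], IsPGroup p S → F.IsSaturated p →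
      ∀ {T : Subgroup Ω} {E : FusionSystem T}, E.IsNormalIn F p →
        ∃ (W : Subgroup Ω) (N : FusionSystem W), W = U ⊓ T ∧ N.IsNormalIn C p ∧ N.IsSubnormalIn E p by
    intro _ _ hS hF hq T E hE
    obtain ⟨W, N, rfl, hN, hNE⟩ := key hS hF hE
    have hUS : U ≤ S := hC.le
    haveI := finite_of_le hUS
    rcases dichotomy (hS.to_le hUS) hq hN with h | h
    · exact Or.inr h
    · exact Or.inl (eq_rec_of_subsystem (prop := fun {W} G => G.IsSubnormalIn E p) hN.1.2.2.1 h hNE)
  induction hC with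
  | refl F p =>
    intro _ _ hS hF T E hE
    exact ⟨T, E, (inf_eq_right.mpr hE.1.2.2.2.1.1).symm, hE, .refl E p⟩
  | @step U₀ S₀ C D F p hCD hDF ih =>
    intro _ _ hS hF T E hE
    have hp : Wedge.IsPair F p D E := ⟨hS, hDF, hE⟩
    haveI := finite_of_le hp.closed₁.1
    obtain ⟨W, N, hW, hN, hNm⟩ := ih (hS.to_le hp.closed₁.1) hDF.1.1 hp.meet_normal₁
    refine ⟨W, N, ?_, hN, Components.subnormal_trans hNm (.step (.refl _ _) hp.meet_normal₂)⟩
    rw [hW, ← inf_assoc, inf_eq_left.mpr hCD.le]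

/-- A component inside a normal subsystem is a component of it. -/
theorem component_of_le (hS : IsPGroup p S) (hF : F.IsSaturated p) (hC : C.IsComponentIn F p)
    (hE : E.IsNormalIn F p) (hle : U ≤ T) : C.IsComponentIn E p := by
  refine (component_or_central hC.1 hS hF hC.2 hE).elim (fun h => ⟨h, hC.2⟩) fun h => ?_
  rw [inf_eq_left.mpr hle] at h
  haveI := finite_of_le hC.1.le
  exact absurd h (quasisimple_not_le_center (hS.to_le hC.1.le) hC.2)

/-- A component of a quasisimple system is the system. -/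
theorem component_of_quasisimple (hS : IsPGroup p S) (hq : F.Quasisimple p) (hC : C.IsComponentIn F p) :
    F.IsSubsystemOf C := by
  obtain ⟨hsub, hCq⟩ := hC
  revert hS hq hCq
  revert ‹Finite S›
  revert ‹Fact p.Prime›
  induction hsub with
  | refl => intro _ _ _ _ _ P; exact subset_rfl
  | @step U₀ S₀ C D F p hCD hDF ih =>
    intro _ _ hS hq hCq
    have hU : U₀ ≤ S₀ := hDF.1.2.2.2.1.1
    haveI := finite_of_le hU
    rcases dichotomy hS hq hDF with h | h
    · exfalso
      haveI := finite_of_le (hCD.le.trans hU)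
      refine quasisimple_nonabelian (hS.to_le (hCD.le.trans hU)) hCq fun x hx y hy => ?_
      exact mem_center_comm (h (hCD.le hy)) (hU (hCD.le hx))
    · have hDq : D.Quasisimple p :=
        eq_rec_of_subsystem (prop := fun {W} G => G.Quasisimple p) h hDF.1.2.2.1 hq
      exact fun P φ hφ => ih (hS.to_le hU) hDq hCq P (h P hφ)

end Cfsg.FusionSystem.Layer
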