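import Cfsg.Agent.Lib.Fusion.Layer.Basics

/-!
A normal subsystem fixes a commuting strongly closed subgroup meeting its carrier in its centre.
-/

set_option autoImplicit false
set_option linter.unusedSectionVars false
set_option linter.style.haveILetI false

namespace Cfsg.FusionSystem.Layer

open Cfsg.FusionSystem.SubCent (Lift liftable eq_top_of_sylow_of_pprime eq_one_of_coprime_pow isIso_self
  sup_image image_self map_centralizer autGroup_le_liftable)

universe u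

variable {Ω : Type u} [Group Ω] {S T T₂ P V : Subgroup Ω} {F : FusionSystem S} {E : FusionSystem T}
  {f g : Ω → Ω} {p : ℕ}

variable [Finite S] [Fact p.Prime]

/-- An automorphism of period prime to `p` moving an element by a fixed element fixes it. -/
theorem fixed_of_coprime (hS : IsPGroup p S) (hg : F.IsIso V V g) {n : ℕ} (hn : ¬ p ∣ n) {c : Ω}
    (hc : c ∈ V) (hper : g^[n] c = c) (hd : g (c⁻¹ * g c) = c⁻¹ * g c) : g c = c := by
  set d := c⁻¹ * g c with hddef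
  have hdV : d ∈ V := V.mul_mem (V.inv_mem hc) (hg.mem hc)
  have hk : ∀ k : ℕ, g^[k] c = c * d ^ k ∧ g (d ^ k) = d ^ k := by
    intro k
    induction k with
    | zero => simp [hg.apply_one]
    | succ k ih =>
      refine ⟨?_, ?_⟩
      · rw [Function.iterate_succ_apply', ih.1, hg.apply_mul hc (V.pow_mem hdV k), ih.2, pow_succ', ← mul_assoc,
          hddef]
        simp
      · rw [pow_succ, hg.apply_mul (V.pow_mem hdV k) hdV, ih.2, hd]
  have h1 : d ^ n = 1 := by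
    have := (hk n).1
    rwa [hper, left_eq_mul] at this
  obtain ⟨e, he⟩ := hS ⟨d, hg.le_left hdV⟩
  have h2 : d ^ p ^ e = 1 := congrArg Subtype.val he
  have h3 : d = 1 := eq_one_of_coprime_pow h1 h2
    (((Nat.Prime.coprime_iff_not_dvd (Fact.out : p.Prime)).mpr hn).symm.pow_right e)
  exact (inv_mul_eq_one.mp h3).symm

theorem le_centralizerIn_of_comm {A B : Subgroup Ω} (hB : B ≤ S) (hc : ∀ a ∈ A, ∀ b ∈ B, a * b = b * a) :
    B ≤ centralizerIn S A := fun b hb =>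
  ⟨hB hb, Subgroup.mem_centralizer_iff.mpr fun a ha => hc a ha b hb⟩

/-- A lift of an automorphism of order prime to `p` fixing `T₂`. -/
theorem lift_fixing [Finite T] (hS : IsPGroup p S) (hT₂ : F.StronglyClosed T₂) (hc : ∀ a ∈ T, ∀ b ∈ T₂, a * b = b * a)
    (hz : T ⊓ T₂ ≤ E.center) (hPT : P ≤ T) (hfE : E.IsIso P P f) {k : Ω → Ω} (hk : Lift F P k)
    (hkf : ∀ x ∈ P, k x = f x) {m : ℕ} (hm : ¬ p ∣ m) (hper : ∀ x ∈ P, f^[m] x = x) :
    ∃ g, Lift F P g ∧ (∀ x ∈ P, g x = f x) ∧ ∀ t ∈ T₂, g t = t := by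
  have hitk : ∀ (n : ℕ), ∀ x ∈ P, k^[n] x = f^[n] x := fun n => by
    induction n with
    | zero => exact fun _ _ => rfl
    | succ n ih =>
      intro x hx
      rw [Function.iterate_succ_apply, Function.iterate_succ_apply, hkf x hx, ih _ (hfE.mem hx)]
  obtain ⟨g, hg, hge, n, hn, hgper⟩ := hk.exists_pprime hm fun x hx => (hitk m x hx).trans (hper x hx)
  refine ⟨g, hg, fun x hx => (hge x hx).trans (hkf x hx), fun t ht => ?_⟩
  have htC : t ∈ centralizerIn S P :=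
    le_centralizerIn_of_comm hT₂.1 (fun a ha => hc a (hPT ha)) ht
  have htV : t ∈ P ⊔ centralizerIn S P := Subgroup.mem_sup_right htC
  refine fixed_of_coprime hS hg.iso hn htV (hgper t htV) ?_
  have hd : t⁻¹ * g t ∈ P := hg.triv t htC
  rw [hge _ hd, hkf _ hd]
  exact center_fixed hfE (hz ⟨hPT hd, T₂.mul_mem (T₂.inv_mem ht) (hT₂.iso_mem hg.iso htV ht)⟩) hd

/-- The maps of `E` extend fixing `T₂`. -/
theorem hom_fix (hS : IsPGroup p S) (hE : E.IsNormalIn F p) (hT₂ : F.StronglyClosed T₂)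
    (hc : ∀ a ∈ T, ∀ b ∈ T₂, a * b = b * a) (hz : T ⊓ T₂ ≤ E.center) :
    ∀ P, E.Hom P ⊆ F.centralizerHom T₂ P := by
  classical
  obtain ⟨hEs, hF, hEi⟩ := id hE.1
  have hTS : T ≤ S := hEi.2.1.1
  haveI := finite_of_le hTS
  have hTp : IsPGroup p T := hS.to_le hTS
  have hTC : T ≤ centralizerIn S T₂ := le_centralizerIn_of_comm hTS fun a ha b hb => (hc b hb a ha).symm
  set C := F.centralizerSystem T₂ hT₂.1
  let G : FusionSystem T :=
    { Hom := fun P => {φ | φ ∈ E.Hom P ∧ φ ∈ C.Hom P}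
      le_of_mem := fun h => E.le_of_mem h.1
      injective_of_mem := fun h => E.injective_of_mem h.1
      conj_mem := fun {P g} hP hg => ⟨E.conj_mem hP hg, C.conj_mem (hP.trans hTC) (hTC hg)⟩
      comp_mem := fun {P Q φ ψ} hφ hψ h => ⟨E.comp_mem hφ.1 hψ.1 h, C.comp_mem hφ.2 hψ.2 h⟩
      inv_mem := fun {P φ} hφ => by
        obtain ⟨a, ha, hae⟩ := E.inv_mem hφ.1
        obtain ⟨b, hb, hbe⟩ := C.inv_mem hφ.2
        refine ⟨a, ⟨ha, C.mem_of_apply_eq hb ?_⟩, hae⟩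
        rintro ⟨_, x, rfl⟩
        rw [hae, hbe] }
  suffices hle : E ≤ G from fun P φ hφ => (hle P hφ).2
  refine hEs.le_of_autGroup_le' hTp G fun P hP _ => ?_
  have hPc : E.IsCentric P := by
    rcases hP with rfl | hP
    exacts [isCentric_self, hP.1]
  have hPT : P ≤ T := hPc.1
  haveI := finite_of_le hPT
  haveI := finite_autGroup (F := E) hPT
  have hPn : E.IsFullyNormalized P := by
    rcases hP with rfl | hP
    exacts [isFullyNormalized_self, hP.2.1]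
  obtain ⟨-, R, hR⟩ := hEs.isFullyAutomized_of_isFullyNormalized hTp hPn
  refine Subgroup.subgroupOf_eq_top.mp (eq_top_of_sylow_of_pprime _ R
    (fun a ha => (autInducedBy_le_autGroup hPT (hR.le ha) : (a : MulAut P) ∈ G.autGroup P)) fun a ha => ?_)
  obtain ⟨φ, hφ, hr, hφe⟩ := E.exists_map_of_mem_autGroup hPT a.2
  refine G.mem_autGroup_of_map (φ := φ) ⟨hφ, ?_⟩ fun x => (hφe x).symm
  have hfE : E.IsIso P P (funOf φ) := by
    have := isIso_funOf hφ
    rwa [hr] at this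
  have hper : ∀ x ∈ P, (funOf φ)^[orderOf a] x = x := fun x hx => by
    rw [← coe_pow_apply (fun y => (hφe y).symm.trans (funOf_apply φ y)) _ ⟨x, hx⟩, ← Subgroup.orderOf_coe,
      pow_orderOf_eq_one]
    rfl
  obtain ⟨P₀, hPP₀, hP₀⟩ := F.exists_isFullyNormalized (hPT.trans hTS)
  obtain ⟨φ₁, hφ₁, hr₁, ψ, hψ, hψN, hψe⟩ := hF.exists_map_to_fullyNormalized hS hP₀ hPP₀
  have hPN : P ≤ normalizerIn S P := le_normalizerIn (hPT.trans hTS)
  have hT₂C : T₂ ≤ centralizerIn S P := le_centralizerIn_of_comm hT₂.1 fun a ha => hc a (hPT ha)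
  have hT₂N : T₂ ≤ normalizerIn S P := hT₂C.trans centralizerIn_le_normalizerIn
  have hH := isIso_funOf hψ
  have hHP : F.IsIso P P₀ (funOf ψ) := by
    refine ⟨φ₁, hφ₁, hr₁, fun x => ?_⟩
    rw [← hψe x (hPN x.2)]
    exact funOf_apply ψ _
  have hP₀T : P₀ ≤ T := fun y hy => by
    obtain ⟨x, hx, rfl⟩ := hHP.surj hy
    exact hEi.2.1.iso_mem hHP hx (hPT hx)
  have himg : ∀ y, y ∈ P₀ ↔ ∃ x ∈ P, funOf ψ x = y :=
    fun y => ⟨hHP.surj, fun ⟨x, hx, he⟩ => he ▸ hHP.mem hx⟩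
  obtain ⟨f₀, hf₀, hf₀e⟩ := hEi.iso_transport hHP hPT hfE le_rfl le_rfl himg himg
  have hper₀ : ∀ y ∈ P₀, f₀^[orderOf a] y = y := fun y hy => by
    obtain ⟨x, hx, rfl⟩ := hHP.surj hy
    rw [iterate_semiconj hf₀e (fun x hx => hfE.mem hx) _ hx, hper x hx]
  obtain ⟨k, hk, hke⟩ := Wedge.hasLifts hS hE (hEi.isCentric_of_isIso hPc hHP)
    (hF.isFullyCentralized_of_isFullyNormalized hS hP₀) f₀ hf₀
  obtain ⟨g, hg, hgf, hgT⟩ := lift_fixing hS hT₂ hc hz hP₀T hf₀ hk hke ha hper₀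
  -- back to `P`
  have hP₀T₂ : P₀ ⊔ T₂ ≤ P₀ ⊔ centralizerIn S P₀ :=
    sup_le_sup_left (le_centralizerIn_of_comm hT₂.1 fun a ha => hc a (hP₀T ha)) _
  have hT₂img : ∀ y, y ∈ T₂ ↔ ∃ x ∈ T₂, funOf ψ x = y :=
    image_self hH hT₂N fun x hx => hT₂.iso_mem hH (hT₂N hx) hx
  have h1 : F.IsIso (P ⊔ T₂) (P₀ ⊔ T₂) (funOf ψ) := sup_image hH hPN hT₂N himg hT₂img
  have h2 : F.IsIso (P₀ ⊔ T₂) (P₀ ⊔ T₂) g := sup_image hg.iso le_sup_left
    (le_sup_right.trans hP₀T₂) (image_self hg.iso le_sup_left hg.pres)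
    (image_self hg.iso (le_sup_right.trans hP₀T₂) fun x hx => by rw [hgT x hx]; exact hx)
  obtain ⟨i, hi, hil, -⟩ := h1.symm
  have htot := (h1.comp h2).comp hi
  have hval : ∀ x ∈ P, i (g (funOf ψ x)) = funOf φ x := fun x hx => by
    rw [hgf _ (hHP.mem hx), hf₀e x hx, hil _ (Subgroup.mem_sup_left (hfE.mem hx))]
  obtain ⟨χ, hχ, -, hχe⟩ := htot
  refine ⟨hEi.1 P hφ, hPT.trans hTC, fun x => hTC (E.apply_mem hφ x), χ, hχ, fun x => ?_, fun t => ?_⟩
  · rw [hχe, funOf_apply φ x]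
    exact hval x x.2
  · rw [hχe]
    show i (g (funOf ψ t)) = t
    rw [hgT _ ((hT₂img _).mpr ⟨t, t.2, rfl⟩), hil _ (Subgroup.mem_sup_right t.2)]

/-- Every automorphism of the carrier lifts fixing `T₂`. -/
theorem top_fix (hS : IsPGroup p S) (hE : E.IsNormalIn F p) (hT₂ : F.StronglyClosed T₂)
    (hc : ∀ a ∈ T, ∀ b ∈ T₂, a * b = b * a) (hz : T ⊓ T₂ ≤ E.center) (hf : E.IsIso T T f) :
    ∃ g, Lift F T g ∧ (∀ x ∈ T, g x = f x) ∧ ∀ t ∈ T₂, g t = t := by
  classical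
  obtain ⟨hEs, hF, hEi⟩ := id hE.1
  have hTS : T ≤ S := hEi.2.1.1
  haveI := finite_of_le hTS
  haveI := finite_autGroup (F := E) (le_refl T)
  have hTp : IsPGroup p T := hS.to_le hTS
  have hW : T ⊔ centralizerIn S T ≤ S := SubCent.ext_le hTS
  have hT₂W : T₂ ≤ T ⊔ centralizerIn S T := (le_centralizerIn_of_comm hT₂.1 hc).trans le_sup_right
  let K : Subgroup (E.autGroup T) :=
    { carrier := {a | ∃ g, Lift F T g ∧ (∀ x : T, (((a : MulAut T) x : T) : Ω) = g x) ∧ ∀ t ∈ T₂, g t = t}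
      one_mem' := ⟨fun x => x, ⟨IsIso.refl F hW, fun x hx => hx, fun c _ => by simp⟩,
        fun _ => rfl, fun _ _ => rfl⟩
      mul_mem' := by
        rintro a b ⟨g, hg, hga, hgt⟩ ⟨h, hh, hhb, hht⟩
        exact ⟨_, hh.comp hg, fun x => by
          show (((a : MulAut T) ((b : MulAut T) x) : T) : Ω) = g (h x)
          rw [hga, hhb], fun t ht => (congrArg g (hht t ht)).trans (hgt t ht)⟩
      inv_mem' := by
        rintro a ⟨g, hg, hga, hgt⟩
        obtain ⟨g', hg', hl, hr⟩ := hg.exists_symm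
        refine ⟨g', hg', fun x => ?_, fun t ht => ?_⟩
        · show ((((a : MulAut T))⁻¹ x : T) : Ω) = g' x
          have := hga ((a : MulAut T)⁻¹ x)
          rw [MulAut.apply_inv_self] at this
          rw [this, hl _ (Subgroup.mem_sup_left (SetLike.coe_mem _))]
        · conv_lhs => rw [← hgt t ht]
          exact hl t (hT₂W ht) }
  obtain ⟨-, R, hR⟩ := hEs.isFullyAutomized_of_isFullyNormalized hTp isFullyNormalized_self
  have htop : K = ⊤ := by
    refine eq_top_of_sylow_of_pprime K R (fun a ha => ?_) fun a ha => ?_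
    · obtain ⟨t, ht, -, hte⟩ := mem_autInducedBy_iff.mp (hR.le ha)
      refine ⟨fun x => t * x * t⁻¹, ⟨isIso_conj_normalizer hW (hTS ht) (Subgroup.le_normalizer
        (Subgroup.mem_sup_left ht)), fun x hx => T.mul_mem (T.mul_mem ht hx) (T.inv_mem ht), fun c hc' => ?_⟩,
        fun x => hte x, fun s hs => ?_⟩
      · rw [Subgroup.mem_centralizer_iff.mp hc'.2 t ht, mul_inv_cancel_right, inv_mul_cancel]
        exact T.one_mem
      · show t * s * t⁻¹ = s
        rw [hc t ht s hs, mul_inv_cancel_right]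
    · obtain ⟨f', hf', hf'e⟩ := isIso_of_aut le_rfl a.2
      obtain ⟨k, hk, hke⟩ := autGroup_le_liftable hE a.2
      obtain ⟨g, hg, hgf, hgt⟩ := lift_fixing hS hT₂ hc hz le_rfl hf' hk
        (fun x hx => (hke ⟨x, hx⟩).symm.trans (hf'e _)) ha fun x hx => by
          rw [← coe_pow_apply hf'e _ ⟨x, hx⟩, ← Subgroup.orderOf_coe, pow_orderOf_eq_one]
          rfl
      exact ⟨g, hg, fun x => (hf'e x).trans (hgf x x.2).symm, hgt⟩
  obtain ⟨α, hα, hαe⟩ := hf.toAut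
  obtain ⟨g, hg, hga, hgt⟩ : (⟨α, hα⟩ : E.autGroup T) ∈ K := htop ▸ Subgroup.mem_top _
  exact ⟨g, hg, fun x hx => (hga ⟨x, hx⟩).symm.trans (hαe _), hgt⟩

end Cfsg.FusionSystem.Layer
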