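import Cfsg.Agent.Lib.Fusion.Layer.Basics

/-!
The image of a weakly normal subsystem modulo a central subgroup.
-/

set_option autoImplicit false
set_option linter.unusedSectionVars false
set_option linter.style.haveILetI false

namespace Cfsg.FusionSystem.Layer

universe u v

variable {Ω : Type u} [Group Ω] {Ω' : Type v} [Group Ω'] {S T Z : Subgroup Ω} {S' : Subgroup Ω'}
  {θ : S →* Ω'} {F : FusionSystem S} {F' : FusionSystem S'} {E : FusionSystem T} {p : ℕ}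
  [Finite S] [Fact p.Prime]

/-- The image system is weakly normal in the factor system. -/
theorem exists_image (hS : IsPGroup p S) (hZ : F.IsCentral Z) (hfac : F.IsFactorSystem Z θ F')
    (hE : E.IsWeaklyNormalIn F p) :
    ∃ (hT : T ≤ S) (E' : FusionSystem (imageAlong θ T)), E'.IsWeaklyNormalIn F' p ∧
      E.IsFactorSystem (Z ⊓ T) (θ.comp (Subgroup.inclusion hT)) E' := by
  obtain ⟨hEs, hF, hEi⟩ := id hE
  have hTS : T ≤ S := hEi.2.1.1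
  haveI := finite_of_le hTS
  have hTp : IsPGroup p T := hS.to_le hTS
  refine ⟨hTS, ?_⟩
  set θ' := θ.comp (Subgroup.inclusion hTS) with hθ'
  have hker : ∀ s : T, θ' s = 1 ↔ (s : Ω) ∈ Z ⊓ T := fun s =>
    ⟨fun h => ⟨(hfac.2.1 _).mp h, s.2⟩, fun h => (hfac.2.1 _).mpr h.1⟩
  have hsc : E.StronglyClosed (Z ⊓ T) := ⟨inf_le_right, fun R hR φ hφ x => by
    have h1 : φ x = x := apply_eq_self_of_isConjElt (hEi.1 R hφ) x.2 fun y hy =>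
      hZ.isConjElt_eq (hR x.2).1 hy
    rw [h1]
    exact hR x.2⟩
  have hrange : θ'.range = imageAlong θ T := by
    ext y
    constructor
    · rintro ⟨x, rfl⟩
      exact ⟨Subgroup.inclusion hTS x, x.2, rfl⟩
    · rintro ⟨x, hx, rfl⟩
      exact ⟨⟨x, hx⟩, rfl⟩
  have hex : ∀ W : Subgroup Ω', θ'.range = W → ∃ E' : FusionSystem W, E.IsFactorSystem (Z ⊓ T) θ' E' := by
    rintro W rfl
    exact ⟨factorSystem (Z ⊓ T) E θ' hker hsc, inf_le_right, hker, rfl, fun P' φ' => Iff.rfl⟩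
  obtain ⟨E', hE'⟩ := hex _ hrange
  have hmE := Cfsg.Agent.S5134.result p hTp E hEs (Z ⊓ T) hsc θ' E' hE'
  have hmF := Cfsg.Agent.S5134.result p hS F hF Z hZ.isNormal.stronglyClosed θ F' hfac
  have hE's : E'.IsSaturated p := Cfsg.Agent.S5133.result p hTp E hEs E' θ' hmE
  have hF's : F'.IsSaturated p := Cfsg.Agent.S5133.result p hS F hF F' θ hmF
  have hS'fin : Finite S' := by
    rw [← hfac.2.2.1]
    exact Finite.of_surjective θ.rangeRestrict θ.rangeRestrict_surjective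
  have hS'p : IsPGroup p S' := by
    rw [← hfac.2.2.1]
    exact hS.of_surjective θ.rangeRestrict θ.rangeRestrict_surjective
  have hle' : imageAlong θ T ≤ S' := by
    rintro _ ⟨x, -, rfl⟩
    exact hfac.2.2.1.le ⟨x, rfl⟩
  have hsub : E'.IsSubsystemOf F' := by
    intro P' φ' hφ'
    obtain ⟨hP', φ, hφ, hi⟩ := (hE'.2.2.2 P' φ').mp hφ'
    obtain ⟨ψ', hψ', hi'⟩ := hmF.1.2 _ φ (hEi.1 _ hφ)
    have hle : P' ≤ imageAlong θ (preimageAlong θ' P') := fun y hy => by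
      obtain ⟨x, hx, hxT, e⟩ := exists_mem_preimageAlong (hP'.trans hrange.ge) ⟨y, hy⟩
      exact ⟨⟨x, hTS hxT⟩, hx, e⟩
    refine F'.mem_of_restrict hψ' hle fun y hy => ?_
    obtain ⟨x, hx, hxT, e⟩ := exists_mem_preimageAlong (hP'.trans hrange.ge) ⟨y, hy⟩
    have hm : θ' ⟨x, hxT⟩ ∈ P' := by rw [e]; exact hy
    have hm' : θ ⟨x, hTS hxT⟩ ∈ imageAlong θ (preimageAlong θ' P') := ⟨⟨x, hTS hxT⟩, hx, rfl⟩
    calc φ' ⟨y, hy⟩ = φ' ⟨_, hm⟩ := congrArg φ' (Subtype.ext e.symm)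
      _ = θ' ⟨φ ⟨x, hx⟩, E.apply_mem hφ _⟩ := inducedAlong_apply_mem hφ hi ⟨x, hx⟩ hm
      _ = ψ' ⟨_, hm'⟩ := (inducedAlong_apply_mem (hEi.1 _ hφ) hi' ⟨x, hx⟩ hm').symm
      _ = ψ' ⟨y, hle hy⟩ := congrArg ψ' (Subtype.ext e)
  have hclosed : F'.StronglyClosed (imageAlong θ T) := by
    refine ⟨hle', fun R' hR' φ' hφ' y => ?_⟩
    obtain ⟨hR'S, φ, hφ, hi⟩ := (hfac.2.2.2 R' φ').mp hφ'
    obtain ⟨t, ht, hte⟩ : (y : Ω') ∈ imageAlong θ T := hR' y.2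
    have htp : (t : Ω) ∈ preimageAlong θ R' := mem_preimageAlong.mpr ⟨t.2, by rw [Subtype.coe_eta, hte]; exact y.2⟩
    have hm : θ ⟨t, t.2⟩ ∈ R' := (mem_preimageAlong.mp htp).2
    rw [show y = ⟨_, hm⟩ from Subtype.ext hte.symm, inducedAlong_apply_mem hφ hi ⟨t, htp⟩ hm]
    exact ⟨⟨φ ⟨t, htp⟩, F.apply_mem hφ _⟩, hEi.2.1.apply_mem_of_mem hφ ht, rfl⟩
  refine ⟨E', ⟨hE's, hF's, StrongInvariance.isInvariantIn hF's hS'p hclosed hsub ?_⟩, hE'⟩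
  intro P' Q' hPQ hQT φ' hφ' hφQ ψ' hψ'
  obtain ⟨hP', φ, hφ, hi⟩ := (hE'.2.2.2 P' φ').mp hφ'
  obtain ⟨hQ', ψ, hψ, hiψ⟩ := (hfac.2.2.2 Q' ψ').mp hψ'
  have hQ0 : preimageAlong θ' Q' ≤ preimageAlong θ Q' := fun x hx =>
    mem_preimageAlong.mpr ⟨hTS (mem_preimageAlong.mp hx).1, (mem_preimageAlong.mp hx).2⟩
  have hP0 : preimageAlong θ' P' ≤ preimageAlong θ' Q' := fun x hx => by
    obtain ⟨hxT, hm⟩ := mem_preimageAlong.mp hx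
    exact mem_preimageAlong.mpr ⟨hxT, hPQ hm⟩
  have hφQ0 : ∀ x, φ x ∈ preimageAlong θ' Q' := fun x => by
    refine mem_preimageAlong.mpr ⟨E.apply_mem hφ x, ?_⟩
    rw [← inducedAlong_apply_mem hφ hi x (mem_preimageAlong.mp x.2).2]
    exact hφQ _
  obtain ⟨χ, hχ, hχe⟩ := hEi.strongInvariance _ _ hP0 preimageAlong_le φ hφ hφQ0 _
    (F.restrict_mem hψ hQ0)
  obtain ⟨χ', hχ', hiχ⟩ := hmE.1.2 _ χ hχ
  have hkey : ∀ (y : Ω') (hy : y ∈ P'), ∃ (x : Ω) (hx : x ∈ preimageAlong θ' P') (hxT : x ∈ T)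
      (h : ψ ⟨x, hQ0 (hP0 hx)⟩ ∈ ((preimageAlong θ' P').subgroupOf (preimageAlong θ' Q')).map
        (ψ.comp (Subgroup.inclusion hQ0))) (hS' : ψ ⟨x, hQ0 (hP0 hx)⟩ ∈ T),
      θ ⟨x, hTS hxT⟩ = y ∧ ψ' ⟨y, hPQ hy⟩ = θ' ⟨ψ ⟨x, hQ0 (hP0 hx)⟩, hS'⟩ := by
    intro y hy
    obtain ⟨x, hx, hxT, e⟩ := exists_mem_preimageAlong (hP'.trans hrange.ge) ⟨y, hy⟩
    have e' : θ ⟨x, hTS hxT⟩ = y := e
    refine ⟨x, hx, hxT, ⟨⟨x, hP0 hx⟩, hx, rfl⟩, hEi.2.1.apply_mem_of_mem hψ hxT, e', ?_⟩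
    have hm : θ ⟨x, hTS hxT⟩ ∈ Q' := e'.symm ▸ hPQ hy
    exact (congrArg ψ' (Subtype.ext e'.symm)).trans (inducedAlong_apply_mem hψ hiψ ⟨x, hQ0 (hP0 hx)⟩ hm)
  have hle : (P'.subgroupOf Q').map ψ' ≤ imageAlong θ'
      (((preimageAlong θ' P').subgroupOf (preimageAlong θ' Q')).map (ψ.comp (Subgroup.inclusion hQ0))) := by
    rintro _ ⟨⟨y, hyQ⟩, hy, rfl⟩
    obtain ⟨x, hx, hxT, hm, hmT, -, he⟩ := hkey y hy
    exact ⟨⟨_, hmT⟩, hm, he.symm⟩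
  refine ⟨_, E'.restrict_mem hχ' hle, fun y hy => ?_⟩
  obtain ⟨x, hx, hxT, hm, hmT, hxy, he⟩ := hkey y y.2
  have hm' := hle hy
  show χ' ⟨_, hm'⟩ = _
  have hm2 : θ' ⟨ψ ⟨x, hQ0 (hP0 hx)⟩, hmT⟩ ∈ imageAlong θ'
      (((preimageAlong θ' P').subgroupOf (preimageAlong θ' Q')).map (ψ.comp (Subgroup.inclusion hQ0))) :=
    ⟨⟨_, hmT⟩, hm, rfl⟩
  have h1 : χ' ⟨_, hm'⟩ = θ' ⟨χ ⟨_, hm⟩, E.apply_mem hχ _⟩ :=
    (congrArg χ' (Subtype.ext he)).trans (inducedAlong_apply_mem hχ hiχ ⟨_, hm⟩ hm2)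
  rw [h1]
  have hmP : θ' ⟨x, hxT⟩ ∈ P' := hxy.symm ▸ y.2
  have h2 : φ' y = θ' ⟨φ ⟨x, hx⟩, E.apply_mem hφ _⟩ :=
    (congrArg φ' (Subtype.ext hxy.symm)).trans (inducedAlong_apply_mem hφ hi ⟨x, hx⟩ hmP)
  have hmQ : θ ⟨φ ⟨x, hx⟩, hTS (E.apply_mem hφ _)⟩ ∈ Q' := by
    have := hφQ y
    rwa [h2] at this
  have h3 : ψ' ⟨φ' y, hφQ y⟩ = θ ⟨ψ ⟨φ ⟨x, hx⟩, hQ0 (hφQ0 _)⟩, F.apply_mem hψ _⟩ :=
    (congrArg ψ' (Subtype.ext h2)).trans (inducedAlong_apply_mem hψ hiψ ⟨_, hQ0 (hφQ0 ⟨x, hx⟩)⟩ hmQ)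
  rw [h3]
  exact congrArg θ (Subtype.ext (hχe ⟨x, hx⟩ hm))

end Cfsg.FusionSystem.Layer
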