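import Cfsg.Agent.Lib.Fusion.Layer.Dichotomy
import Cfsg.Prelude.Def_FusionFitting

/-!
The least normal subsystem containing given components; the layer.
-/

set_option autoImplicit false
set_option linter.unusedSectionVars false
set_option linter.style.haveILetI false

namespace Cfsg.FusionSystem.Layer

universe u

variable {Ω : Type u} [Group Ω] {S T T' U : Subgroup Ω} {F : FusionSystem S} {E : FusionSystem T}
  {E' : FusionSystem T'} {C : FusionSystem U} {p : ℕ}

/-- `E` is the least normal subsystem containing the systems satisfying `𝒞`. -/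
def IsLeast (𝒞 : ∀ ⦃U : Subgroup Ω⦄, FusionSystem U → Prop) (E : FusionSystem T) (F : FusionSystem S)
    (p : ℕ) : Prop :=
  E.IsNormalIn F p ∧ (∀ (U : Subgroup Ω) (C : FusionSystem U), 𝒞 C → C.IsSubsystemOf E) ∧
    ∀ (R : Subgroup Ω) (D : FusionSystem R), D.IsNormalIn F p →
      (∀ (U : Subgroup Ω) (C : FusionSystem U), 𝒞 C → C.IsSubsystemOf D) → E.IsSubsystemOf D

theorem isLayerOf_iff : E.IsLayerOf F p ↔ IsLeast (fun _ C => C.IsComponentIn F p) E F p := Iff.rfl

variable [Finite S] [Fact p.Prime]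

theorem exists_isLeast (hS : IsPGroup p S) (hF : F.IsSaturated p)
    (𝒞 : ∀ ⦃U : Subgroup Ω⦄, FusionSystem U → Prop)
    (h𝒞 : ∀ (U : Subgroup Ω) (C : FusionSystem U), 𝒞 C → C.IsComponentIn F p) :
    ∃ (T : Subgroup Ω) (E : FusionSystem T), IsLeast 𝒞 E F p := by
  classical
  have hex : ∃ n : ℕ, ∃ (T : Subgroup Ω) (E : FusionSystem T), E.IsNormalIn F p ∧
      (∀ (U : Subgroup Ω) (C : FusionSystem U), 𝒞 C → C.IsSubsystemOf E) ∧
      (Components.allMaps E).ncard = n :=
    ⟨_, S, F, isNormalIn_self hF, fun U C hC => (Components.subnormal_basic (h𝒞 U C hC).1).2.1, rfl⟩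
  obtain ⟨T, E, hE, hall, hn⟩ := Nat.find_spec hex
  refine ⟨T, E, hE, hall, fun R D hD hDall => ?_⟩
  have hp : Wedge.IsPair F p E D := ⟨hS, hE, hD⟩
  have hm : ∀ (U : Subgroup Ω) (C : FusionSystem U), 𝒞 C → C.IsSubsystemOf hp.meet := fun U C hC =>
    (Components.subnormal_basic (component_of_le hS hF (h𝒞 U C hC) hp.meet_normal
      (le_inf (le_of_isSubsystemOf (hall U C hC)) (le_of_isSubsystemOf (hDall U C hC)))).1).2.1
  have hmin := Nat.find_min' hex ⟨_, hp.meet, hp.meet_normal, hm, rfl⟩
  have hsub : Components.allMaps hp.meet ⊆ Components.allMaps E := fun x hx =>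
    hp.meet_normal₁.1.2.2.1 _ hx
  have heq := Set.eq_of_subset_of_ncard_le hsub (hn ▸ hmin) (Components.allMaps_finite hE.1.2.2.2.1.1 E)
  intro P φ hφ
  exact hp.meet_normal₂.1.2.2.1 P (show (⟨P, φ⟩ : Σ P : Subgroup Ω, P →* Ω) ∈ Components.allMaps hp.meet from heq.symm.subset hφ)

/-- The layer exists. -/
theorem exists_layer (hS : IsPGroup p S) (hF : F.IsSaturated p) :
    ∃ (T : Subgroup Ω) (E : FusionSystem T), E.IsLayerOf F p :=
  exists_isLeast hS hF (fun _ C => C.IsComponentIn F p) fun _ _ h => h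

/-- Components are components of the layer. -/
theorem component_layer (hS : IsPGroup p S) (hF : F.IsSaturated p) (hE : E.IsLayerOf F p)
    (hC : C.IsComponentIn F p) : C.IsComponentIn E p :=
  component_of_le hS hF hC hE.1 (le_of_isSubsystemOf (hE.2.1 U C hC))

omit [Finite S] [Fact p.Prime] in
/-- Components of a subnormal subsystem are components. -/
theorem component_up (hE : E.IsSubnormalIn F p) (hC : C.IsComponentIn E p) : C.IsComponentIn F p :=
  ⟨Components.subnormal_trans hC.1 hE, hC.2⟩

omit [Finite S] [Fact p.Prime] in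
theorem subnormal_of_normal (hE : E.IsNormalIn F p) : E.IsSubnormalIn F p := .step (.refl E p) hE

/-- The residual of a weakly normal subsystem contains the components below it. -/
theorem component_residual (hS : IsPGroup p S) (hT : IsPGroup p T) (hE : E.IsWeaklyNormalIn F p)
    [Finite T] (hC : C.IsComponentIn F p) (hle : U ≤ T) :
    C.IsSubsystemOf (PrimeResidual.residual hT hE.1) :=
  (Components.subnormal_basic (component_of_le hS hE.2.1 hC
    (PrimeResidual.residual_isNormalIn hS hT hE) hle).1).2.1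

end Cfsg.FusionSystem.Layer
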