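import Cfsg.Agent.Lib.Fusion.Layer.Central
import Cfsg.Agent.Lib.Fusion.Layer.Fix

/-!
The central product of two commuting normal subsystems is normal; normal subsystems of a factor.
-/

set_option autoImplicit false
set_option linter.unusedSectionVars false
set_option linter.style.haveILetI false

namespace Cfsg.FusionSystem.Layer

open Cfsg.FusionSystem.SubCent (Lift map_centralizer image_self)

universe u

variable {Ω : Type u} [Group Ω] {S T₁ T₂ U W : Subgroup Ω} {F : FusionSystem S}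
  {E₁ : FusionSystem T₁} {E₂ : FusionSystem T₂} {D : FusionSystem U} {C : FusionSystem W} {p : ℕ}

theorem IsProd.sup_le (h : IsProd E₁ E₂ D) {P : Subgroup Ω} (hP : P ≤ U) : P ≤ T₁ ⊔ T₂ := h.carrier ▸ hP

/-- The first factor is a subsystem. -/
theorem IsProd.left_le (h : IsProd E₁ E₂ D) [Finite T₁] [Fact p.Prime] (hp : IsPGroup p T₁)
    (hE₁ : E₁.IsSaturated p) (hz : T₁ ⊓ T₂ ≤ E₁.center) : E₁.IsSubsystemOf D := by
  intro P φ hφ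
  have hPT : P ≤ T₁ := E₁.source_le hφ
  have hP : P ≤ T₁ ⊔ T₂ := hPT.trans le_sup_left
  obtain ⟨ψ, hψ, hψe, hψZ⟩ := (isCentral_center E₁).2 P φ hφ
  have hle : proj T₁ T₂ P ≤ P ⊔ E₁.center := by
    intro a ha
    obtain ⟨ha1, x, hx, b, hb, rfl⟩ := (mem_proj (hP.trans (le_normalizer_of_comm h.comm))).mp ha
    refine Subgroup.mul_mem_sup hx (hz ⟨?_, hb⟩)
    simpa using T₁.mul_mem (T₁.inv_mem (hPT hx)) ha1
  have hsec : ∀ b ∈ proj T₂ T₁ P, b ∈ T₁ ⊓ T₂ := by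
    intro b hb
    obtain ⟨hb2, x, hx, a, ha, rfl⟩ := (mem_proj (T₁ := T₂) (T₂ := T₁) (hPT.trans Subgroup.le_normalizer)).mp hb
    exact ⟨T₁.mul_mem (hPT hx) ha, hb2⟩
  refine (h.hom P φ).mpr ⟨hP, _, E₁.restrict_mem hψ hle, _, E₂.id_mem inf_le_right, fun x a b hx => ?_⟩
  have hbZ : (b : Ω) ∈ E₁.center := hz (hsec b b.2)
  have hb1 : (b : Ω) ∈ P ⊔ E₁.center := Subgroup.mem_sup_right hbZ
  rw [← hψe x, show (proj T₂ T₁ P).subtype b = ψ ⟨b, hb1⟩ from (hψZ ⟨b, hbZ⟩).symm]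
  show ψ _ = ψ (Subgroup.inclusion hle a) * ψ _
  rw [← map_mul]
  exact congrArg ψ (Subtype.ext hx)

/-- A map of the product on a subgroup of the first factor is a map of that factor. -/
theorem IsProd.mem_left (h : IsProd E₁ E₂ D) {P : Subgroup Ω} (hP : P ≤ T₁) {φ : P →* Ω}
    (hφ : φ ∈ D.Hom P) : φ ∈ E₁.Hom P := by
  obtain ⟨hPT, φ₁, h₁, φ₂, h₂, he⟩ := (h.hom P φ).mp hφ
  refine E₁.mem_of_apply_eq (E₁.restrict_mem h₁ (self_le_proj hP)) fun x => ?_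
  rw [he x (Subgroup.inclusion (self_le_proj hP) x) 1 (by simp), map_one, mul_one]
  rfl

variable [Fact p.Prime]

omit [Fact p.Prime] in
/-- A pair of maps gives a map of the product. -/
theorem IsProd.exists_pair (h : IsProd E₁ E₂ D) [Finite T₁] [Finite T₂] (hz₁ : T₁ ⊓ T₂ ≤ E₁.center)
    (hz₂ : T₁ ⊓ T₂ ≤ E₂.center) {A B : Subgroup Ω} (hA : T₁ ⊓ T₂ ≤ A) (hB : T₁ ⊓ T₂ ≤ B)
    {φ₁ : A →* Ω} (h₁ : φ₁ ∈ E₁.Hom A) {φ₂ : B →* Ω} (h₂ : φ₂ ∈ E₂.Hom B) :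
    ∃ φ ∈ D.Hom (A ⊔ B), ∀ (a : A) (b : B),
      φ ⟨(a : Ω) * b, Subgroup.mul_mem_sup a.2 b.2⟩ = φ₁ a * φ₂ b := by
  have hA₁ : A ≤ T₁ := E₁.source_le h₁
  have hB₂ : B ≤ T₂ := E₂.source_le h₂
  have hAB : A ⊔ B ≤ T₁ ⊔ T₂ := sup_le_sup hA₁ hB₂
  let μ : A × B →* ↥(A ⊔ B) := MonoidHom.mk'
    (fun z => ⟨(z.1 : Ω) * z.2, Subgroup.mul_mem_sup z.1.2 z.2.2⟩) fun z w => Subtype.ext (by
      show (z.1 : Ω) * w.1 * (z.2 * w.2) = z.1 * z.2 * (w.1 * w.2)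
      rw [show (z.1 : Ω) * w.1 * (z.2 * w.2) = z.1 * (w.1 * z.2) * w.2 by group,
        h.comm _ (hA₁ w.1.2) _ (hB₂ z.2.2)]
      group)
  let ν : A × B →* Ω := MonoidHom.mk' (fun z => φ₁ z.1 * φ₂ z.2) fun z w => by
    show φ₁ (z.1 * w.1) * φ₂ (z.2 * w.2) = _
    rw [map_mul, map_mul, show φ₁ z.1 * φ₁ w.1 * (φ₂ z.2 * φ₂ w.2) = φ₁ z.1 * (φ₁ w.1 * φ₂ z.2) * φ₂ w.2
      by group, h.comm _ (E₁.apply_mem h₁ _) _ (E₂.apply_mem h₂ _)]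
    group
  have hμ : Function.Surjective μ := by
    rintro ⟨x, hx⟩
    obtain ⟨a, ha, b, hb, he⟩ := decompose (T₁ := A) (T₂ := B) (fun a ha =>
      Subgroup.centralizer_le_normalizer _ (Subgroup.mem_centralizer_iff.mpr fun b hb =>
        (h.comm a (hA₁ ha) b (hB₂ hb)).symm)) hx
    exact ⟨(⟨a, ha⟩, ⟨b, hb⟩), Subtype.ext he.symm⟩
  have hker : μ.ker ≤ ν.ker := by
    rintro ⟨a, b⟩ hab
    have e : (a : Ω) * b = 1 := congrArg Subtype.val hab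
    have ha : (a : Ω) ∈ T₁ ⊓ T₂ :=
      ⟨hA₁ a.2, by rw [eq_inv_of_mul_eq_one_left e]; exact T₂.inv_mem (hB₂ b.2)⟩
    have hb : (b : Ω) ∈ T₁ ⊓ T₂ :=
      ⟨by rw [eq_inv_of_mul_eq_one_right e]; exact T₁.inv_mem (hA₁ a.2), hB₂ b.2⟩
    show φ₁ a * φ₂ b = 1
    rw [show φ₁ a = a from apply_eq_self_of_isConjElt h₁ a.2 fun y hy =>
        (isCentral_center E₁).isConjElt_eq (hz₁ ha) hy,
      show φ₂ b = b from apply_eq_self_of_isConjElt h₂ b.2 fun y hy =>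
        (isCentral_center E₂).isConjElt_eq (hz₂ hb) hy, e]
  set φ := μ.liftOfSurjective hμ ⟨ν, hker⟩
  have hval : ∀ (a : A) (b : B), φ ⟨(a : Ω) * b, Subgroup.mul_mem_sup a.2 b.2⟩ = φ₁ a * φ₂ b := fun a b =>
    MonoidHom.liftOfRightInverse_comp_apply μ _ (Function.rightInverse_surjInv hμ) ⟨ν, hker⟩ (a, b)
  have hproj : ∀ {a b : Ω}, a ∈ T₁ → b ∈ T₂ → a * b ∈ A ⊔ B → a ∈ A ∧ b ∈ B := by
    intro a b ha hb hab
    obtain ⟨⟨a', b'⟩, he⟩ := hμ ⟨_, hab⟩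
    have e : (a' : Ω) * b' = a * b := congrArg Subtype.val he
    have hz : (a' : Ω)⁻¹ * a = b' * b⁻¹ := by
      rw [show (b' : Ω) * b⁻¹ = (a' : Ω)⁻¹ * ((a' : Ω) * b') * b⁻¹ by group, e]
      group
    have hzm : (a' : Ω)⁻¹ * a ∈ T₁ ⊓ T₂ := ⟨T₁.mul_mem (T₁.inv_mem (hA₁ a'.2)) ha,
      hz ▸ T₂.mul_mem (hB₂ b'.2) (T₂.inv_mem hb)⟩
    refine ⟨by simpa using A.mul_mem a'.2 (hA hzm), ?_⟩
    rw [show b = ((a' : Ω)⁻¹ * a)⁻¹ * b' by rw [hz]; group]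
    exact B.mul_mem (B.inv_mem (hB hzm)) b'.2
  have hle₁ : proj T₁ T₂ (A ⊔ B) ≤ A := fun a ha => by
    obtain ⟨b, hb, hab⟩ := exists_of_proj h.comm hAB ha
    exact (hproj ha.2 hb hab).1
  have hle₂ : proj T₂ T₁ (A ⊔ B) ≤ B := fun b hb => by
    obtain ⟨a, ha, hab⟩ := exists_of_proj (fun b hb a ha => (h.comm a ha b hb).symm)
      (hAB.trans (sup_comm T₁ T₂).le) hb
    exact (hproj ha hb.2 (by rwa [h.comm a ha b hb.2])).2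
  refine ⟨φ, (h.hom _ φ).mpr ⟨hAB, _, E₁.restrict_mem h₁ hle₁, _, E₂.restrict_mem h₂ hle₂, fun x a b hx => ?_⟩,
    hval⟩
  exact (congrArg φ (Subtype.ext hx)).trans (hval ⟨a, hle₁ a.2⟩ ⟨b, hle₂ b.2⟩)

/-- A normal subsystem of the first factor is normal in the product. -/
theorem IsProd.normal_of_normal_left (h : IsProd E₁ E₂ D) [Finite U] (hU : IsPGroup p U)
    (hD : D.IsSaturated p) (hE₁ : E₁.IsSubsystemOf D) (hz₁ : T₁ ⊓ T₂ ≤ E₁.center) (hz₂ : T₁ ⊓ T₂ ≤ E₂.center)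
    (hC : C.IsNormalIn E₁ p) : C.IsNormalIn D p := by
  obtain ⟨hCs, -, hCi⟩ := id hC.1
  have hW₁ : W ≤ T₁ := hCi.2.1.1
  have hT₁U : T₁ ≤ U := h.carrier ▸ le_sup_left
  have hT₂U : T₂ ≤ U := h.carrier ▸ le_sup_right
  haveI := finite_of_le hT₁U
  haveI := finite_of_le hT₂U
  have hclosed : D.StronglyClosed W :=
    ⟨hW₁.trans hT₁U, fun R hR φ hφ x => hCi.2.1.2 R hR φ (h.mem_left (hR.trans hW₁) hφ) x⟩
  refine ⟨⟨hCs, hD, StrongInvariance.isInvariantIn hD hU hclosed (fun P φ hφ => hE₁ P (hCi.1 P hφ))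
    fun P Q hPQ hQW φ hφ hφQ ψ hψ => hCi.strongInvariance P Q hPQ hQW φ hφ hφQ ψ
      (h.mem_left (hQW.trans hW₁) hψ)⟩, fun α hα => ?_⟩
  obtain ⟨β, hβ, hβα, hβc⟩ := hC.2 α hα
  set X := W ⊔ centralizerIn T₁ W
  have hXT : X ≤ T₁ := _root_.sup_le hW₁ centralizerIn_le
  obtain ⟨b, hb, hbe⟩ := isIso_of_aut hXT hβ
  obtain ⟨bφ, hbφ, hbr, hbφe⟩ := id hb
  set V := W ⊔ centralizerIn U W
  have hVU : V ≤ U := _root_.sup_le (hW₁.trans hT₁U) centralizerIn_le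
  have hT₂C : T₂ ≤ centralizerIn U W := le_centralizerIn_of_comm hT₂U fun a ha => h.comm a (hW₁ ha)
  have hXV : X ≤ V := sup_le_sup_left (fun c hc => ⟨hT₁U hc.1, hc.2⟩) W
  have hcdec : ∀ c ∈ centralizerIn U W, ∃ a ∈ centralizerIn T₁ W, ∃ b' ∈ T₂, c = a * b' := by
    intro c hc
    obtain ⟨a, ha, b', hb', rfl⟩ := decompose (le_sup_left.trans (le_normalizer_of_comm h.comm))
      (h.carrier ▸ hc.1)
    exact ⟨a, ⟨ha, by simpa using Subgroup.mul_mem _ hc.2 (Subgroup.inv_mem _ (hT₂C hb').2)⟩, b', hb', rfl⟩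
  have hVX : V ≤ X ⊔ T₂ := _root_.sup_le (le_sup_left.trans le_sup_left) fun c hc => by
    obtain ⟨a, ha, b', hb', rfl⟩ := hcdec c hc
    exact Subgroup.mul_mem_sup (Subgroup.mem_sup_right ha) hb'
  have hZX : T₁ ⊓ T₂ ≤ X := fun z hz => Subgroup.mem_sup_right ⟨hz.1, (hT₂C hz.2).2⟩
  obtain ⟨M, hM, hMe⟩ := h.exists_pair hz₁ hz₂ hZX inf_le_right hbφ (E₂.id_mem le_rfl)
  have hMi := isIso_funOf hM
  have hval : ∀ a ∈ X, ∀ b' ∈ T₂, funOf M (a * b') = b a * b' := by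
    intro a ha b' hb'
    rw [← funOf_apply M ⟨a * b', Subgroup.mul_mem_sup ha hb'⟩, hMe ⟨a, ha⟩ ⟨b', hb'⟩, hbφe]
    rfl
  have hmem : ∀ x ∈ V, funOf M x ∈ V := by
    intro x hx
    obtain ⟨a, ha, b', hb', rfl⟩ := decompose (fun a ha => le_sup_left.trans
      (le_normalizer_of_comm h.comm) (hXT ha)) (hVX hx)
    rw [hval a ha b' hb']
    exact V.mul_mem (hXV (hb.mem ha)) (Subgroup.mem_sup_right (hT₂C hb'))
  obtain ⟨γ, hγ, hγe⟩ := (SubCent.isIso_self hMi hVX hmem).toAut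
  refine ⟨γ, hγ, fun x => ?_, fun c hc => ?_⟩
  · rw [hγe, ← hβα, hbe]
    show funOf M x = b x
    have := hval x (Subgroup.mem_sup_left x.2) 1 T₂.one_mem
    simpa using this
  · obtain ⟨a, ha, b', hb', he⟩ := hcdec c hc
    have hd := hβc ⟨a, Subgroup.mem_sup_right ha⟩ ha
    rw [hbe] at hd
    rw [hγe, he, hval a (Subgroup.mem_sup_right ha) b' hb']
    have hcom : (a⁻¹ * b a) * b' = b' * (a⁻¹ * b a) := h.comm _ (hW₁ hd.1) _ hb'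
    rw [show (a * b')⁻¹ * (b a * b') = b'⁻¹ * ((a⁻¹ * b a) * b') by group, hcom, inv_mul_cancel_left]
    exact hd

variable [Finite S]

set_option maxHeartbeats 800000 in
/-- **The central product of two commuting normal subsystems is normal.** -/
theorem IsProd.isNormalIn (h : IsProd E₁ E₂ D) (hS : IsPGroup p S) (hE₁ : E₁.IsNormalIn F p)
    (hE₂ : E₂.IsNormalIn F p) (hz₁ : T₁ ⊓ T₂ ≤ E₁.center) (hz₂ : T₁ ⊓ T₂ ≤ E₂.center)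
    (hD : D.IsSaturated p) : D.IsNormalIn F p := by
  classical
  obtain ⟨hT, hU, hhom⟩ := h
  subst hU
  obtain ⟨-, hF, hE₁i⟩ := id hE₁.1
  have hE₂i := hE₂.1.2.2
  have hT₁ := hE₁i.2.1
  have hT₂ := hE₂i.2.1
  have h : IsProd E₁ E₂ D := ⟨hT, rfl, hhom⟩
  have hT' : ∀ a ∈ T₂, ∀ b ∈ T₁, a * b = b * a := fun a ha b hb => (hT b hb a ha).symm
  have hfix₁ := hom_fix hS hE₁ hT₂ hT hz₁
  have hfix₂ := hom_fix hS hE₂ hT₁ hT' ((inf_comm T₂ T₁).le.trans hz₂)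
  -- subsystem
  have hsub : D.IsSubsystemOf F := by
    intro P φ hφ
    obtain ⟨hP, φ₁, h₁, φ₂, h₂, he⟩ := (h.hom P φ).mp hφ
    obtain ⟨-, -, -, ψ₁, hψ₁, hψ₁e, hψ₁T⟩ := hfix₁ _ h₁
    obtain ⟨-, -, -, ψ₂, hψ₂, hψ₂e, hψ₂T⟩ := hfix₂ _ h₂
    have hPle : P ≤ proj T₁ T₂ P ⊔ T₂ := fun x hx => by
      obtain ⟨a, b, he'⟩ := decompose_proj hT hP ⟨x, hx⟩
      show x ∈ _
      rw [show x = a * b from he']
      exact Subgroup.mul_mem_sup a.2 b.2.2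
    have hmid : ∀ x : P, ψ₁ (Subgroup.inclusion hPle x) ∈ proj T₂ T₁ P ⊔ T₁ ∧
        ∀ hm, ψ₂ ⟨ψ₁ (Subgroup.inclusion hPle x), hm⟩ = φ x := by
      intro x
      obtain ⟨a, b, he'⟩ := decompose_proj hT hP x
      have e1 : ψ₁ (Subgroup.inclusion hPle x) = φ₁ a * b := by
        rw [show Subgroup.inclusion hPle x = Subgroup.inclusion le_sup_left a *
          Subgroup.inclusion le_sup_right (⟨b, b.2.2⟩ : T₂) from Subtype.ext he', map_mul, hψ₁e, hψ₁T]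
      rw [e1]
      refine ⟨Subgroup.mul_mem _ (Subgroup.mem_sup_right (E₁.apply_mem h₁ a)) (Subgroup.mem_sup_left b.2), fun hm => ?_⟩
      rw [show (⟨φ₁ a * b, hm⟩ : ↥(proj T₂ T₁ P ⊔ T₁)) =
          Subgroup.inclusion le_sup_right (⟨φ₁ a, E₁.apply_mem h₁ a⟩ : T₁) *
          Subgroup.inclusion le_sup_left b from Subtype.ext rfl, map_mul, hψ₂e, hψ₂T, he x a b he']
    exact F.mem_of_apply_eq (F.comp_mem (F.restrict_mem hψ₁ hPle) hψ₂ fun x => (hmid x).1)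
      fun x => ((hmid x).2 _).symm
  have hTc : F.StronglyClosed (T₁ ⊔ T₂) := hT₁.sup hF hS hT₂
  haveI := finite_of_le hTc.1
  haveI := finite_of_le hT₁.1
  haveI := finite_of_le hT₂.1
  have hTn : T₁ ⊔ T₂ ≤ Subgroup.normalizer (T₂ : Set Ω) := le_normalizer_of_comm hT
  have hTn' : T₁ ⊔ T₂ ≤ Subgroup.normalizer (T₁ : Set Ω) :=
    (sup_comm T₁ T₂).le.trans (le_normalizer_of_comm hT')
  refine ⟨⟨hD, hF, StrongInvariance.isInvariantIn hF hS hTc hsub (strongInvariance_of_iso ?_)⟩,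
    fun α hα => ?_⟩
  · intro V V' P Q h' f hh hV hf hPV hQV P' Q' hP' hQ'
    obtain ⟨φ, hφ, hr, hφe⟩ := id hf
    obtain ⟨hP, φ₁, h₁, φ₂, h₂, he⟩ := (h.hom P φ).mp hφ
    obtain ⟨g, R, hg, hge⟩ := exists_full_extension hS hF hT₁ hT₂ hT hh
    have hfull₁ : proj T₁ T₂ V ≤ full T₁ T₂ V := by
      rw [full, inf_eq_left.mpr hV]
      exact le_sup_right
    have hfull₂ : proj T₂ T₁ V ≤ full T₁ T₂ V := by
      intro b hb
      obtain ⟨hb2, x, hx, a, ha, rfl⟩ := (mem_proj (hV.trans hTn')).mp hb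
      have hxF : x ∈ full T₁ T₂ V := Subgroup.mem_sup_left hx
      refine Subgroup.mul_mem _ hxF (hfull₁ ?_)
      have hb' := T₂.inv_mem hb2
      rw [mul_inv_rev] at hb'
      have : a⁻¹ ∈ proj T₁ T₂ V :=
        mem_proj_of_eq hx (T₁.inv_mem ha) hb2 (by rw [hT _ (T₁.inv_mem ha) _ hb2, mul_inv_cancel_right])
      exact (proj T₁ T₂ V).inv_mem this |> fun h => by rwa [inv_inv] at h
    have hP'T : P' ≤ T₁ ⊔ T₂ := fun y hy => by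
      obtain ⟨x, hx, rfl⟩ := (hP' y).mp hy
      exact hTc.iso_mem hh (hPV hx) (hP hx)
    -- each factor is carried
    have hQdec : ∀ x : P, ∀ a : proj T₁ T₂ P, ∀ b : proj T₂ T₁ P, (x : Ω) = (a : Ω) * b →
        φ₁ a * φ₂ b ∈ Q := fun x a b hx => by
      rw [← he x a b hx, hφe]; exact hf.mem x.2
    have hr₁ : φ₁.range ≤ proj T₁ T₂ V := by
      rintro _ ⟨a, rfl⟩
      obtain ⟨b, hb, hab⟩ := exists_of_proj hT hP a.2
      let b' : proj T₂ T₁ P := ⟨b, mem_proj_of_eq hab hb a.2.2 (hT _ a.2.2 _ hb)⟩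
      exact proj_mono hQV (mem_proj_of_eq (hQdec ⟨_, hab⟩ a b' rfl) (E₁.apply_mem h₁ a) (E₂.apply_mem h₂ b') rfl)
    have hr₂ : φ₂.range ≤ proj T₂ T₁ V := by
      rintro _ ⟨b, rfl⟩
      obtain ⟨a, ha, hab⟩ := exists_of_proj hT' (hP.trans (sup_comm T₁ T₂).le) b.2
      let a' : proj T₁ T₂ P := ⟨a, mem_proj_of_eq hab ha b.2.2 (hT _ ha _ b.2.2).symm⟩
      exact proj_mono hQV (mem_proj_of_eq (hQdec ⟨_, hab⟩ a' b (hT _ ha _ b.2.2).symm) (E₂.apply_mem h₂ b)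
        (E₁.apply_mem h₁ a') (hT _ (E₁.apply_mem h₁ a') _ (E₂.apply_mem h₂ b)))
    obtain ⟨V₁, hV₁, -, hV₁m⟩ := hg.restrict hfull₁
    obtain ⟨V₂, hV₂, -, hV₂m⟩ := hg.restrict hfull₂
    obtain ⟨P₁, -, -, hP₁⟩ := hV₁.restrict (proj_mono (T₁ := T₁) (T₂ := T₂) hPV)
    obtain ⟨P₂, -, -, hP₂⟩ := hV₂.restrict (proj_mono (T₁ := T₂) (T₂ := T₁) hPV)
    obtain ⟨Q₁, -, -, hQ₁⟩ := hV₁.restrict hr₁
    obtain ⟨Q₂, -, -, hQ₂⟩ := hV₂.restrict hr₂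
    obtain ⟨f₁, hf₁, hf₁e⟩ := hE₁i.iso_transport hV₁ inf_le_right (isIso_funOf h₁)
      (proj_mono hPV) hr₁ hP₁ hQ₁
    obtain ⟨f₂, hf₂, hf₂e⟩ := hE₂i.iso_transport hV₂ inf_le_right (isIso_funOf h₂)
      (proj_mono hPV) hr₂ hP₂ hQ₂
    obtain ⟨χ₁, hχ₁, -, hχ₁e⟩ := hf₁
    obtain ⟨χ₂, hχ₂, -, hχ₂e⟩ := hf₂
    have hg₁ : ∀ a ∈ proj T₁ T₂ P, g a ∈ T₁ := fun a ha => hT₁.iso_mem hg (hfull₁ (proj_mono hPV ha)) ha.2
    have hg₂ : ∀ b ∈ proj T₂ T₁ P, g b ∈ T₂ := fun b hb => hT₂.iso_mem hg (hfull₂ (proj_mono hPV hb)) hb.2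
    have hsplit : ∀ x : P, ∀ a : proj T₁ T₂ P, ∀ b : proj T₂ T₁ P, (x : Ω) = (a : Ω) * b →
        h' x = g a * g b := fun x a b hx => by
      rw [← hge x (hPV x.2), hx, hg.apply_mul (hfull₁ (proj_mono hPV a.2)) (hfull₂ (proj_mono hPV b.2))]
    -- the intersection is central, so contained in the images
    have hzP₁ : T₁ ⊓ T₂ ≤ P₁ := by
      intro z hz
      have hZ : F.StronglyClosed (T₁ ⊓ T₂) := ⟨inf_le_left.trans hT₁.1, fun R hR ψ hψ z =>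
        ⟨hT₁.2 R (hR.trans inf_le_left) ψ hψ z, hT₂.2 R (hR.trans inf_le_right) ψ hψ z⟩⟩
      obtain ⟨ψ, hψ, -, hψe⟩ := id hg
      obtain ⟨w, hw, hwz⟩ := (hZ.map_eq hψ (inf_le_proj.trans hfull₁)).ge hz
      exact (hP₁ z).mpr ⟨w, inf_le_proj hw, (hψe w).symm.trans hwz⟩
    have hproj₁ : proj T₁ T₂ P' ≤ P₁ := by
      intro a' ha'
      obtain ⟨b', hb', hab⟩ := exists_of_proj hT hP'T ha'
      obtain ⟨x, hx, hxe⟩ := (hP' _).mp hab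
      obtain ⟨a, b, hab'⟩ := decompose_proj hT hP ⟨x, hx⟩
      have e : g a * g b = a' * b' := (hsplit ⟨x, hx⟩ a b hab').symm.trans hxe
      have hz : (g a)⁻¹ * a' ∈ T₁ ⊓ T₂ := by
        refine ⟨T₁.mul_mem (T₁.inv_mem (hg₁ a a.2)) ha'.2, ?_⟩
        rw [show (g a)⁻¹ * a' = g b * b'⁻¹ by
          rw [show g b * b'⁻¹ = (g a)⁻¹ * (g a * g b) * b'⁻¹ by group, e]; group]
        exact T₂.mul_mem (hg₂ b b.2) (T₂.inv_mem hb')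
      simpa using P₁.mul_mem ((hP₁ _).mpr ⟨a, a.2, rfl⟩) (hzP₁ hz)
    have hproj₂ : proj T₂ T₁ P' ≤ P₂ := by
      intro b' hb'
      obtain ⟨a', ha', hab⟩ := exists_of_proj hT' (hP'T.trans (sup_comm T₁ T₂).le) hb'
      rw [← hT a' ha' b' hb'.2] at hab
      obtain ⟨x, hx, hxe⟩ := (hP' _).mp hab
      obtain ⟨a, b, hab'⟩ := decompose_proj hT hP ⟨x, hx⟩
      have e : g a * g b = a' * b' := (hsplit ⟨x, hx⟩ a b hab').symm.trans hxe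
      have hz : b' * (g b)⁻¹ ∈ T₁ ⊓ T₂ := by
        refine ⟨?_, T₂.mul_mem hb'.2 (T₂.inv_mem (hg₂ b b.2))⟩
        rw [show b' * (g b)⁻¹ = a'⁻¹ * g a by
          rw [show b' * (g b)⁻¹ = a'⁻¹ * (a' * b') * (g b)⁻¹ by group, ← e]; group]
        exact T₁.mul_mem (T₁.inv_mem ha') (hg₁ a a.2)
      have hzP₂ : b' * (g b)⁻¹ ∈ P₂ := by
        obtain ⟨w, hw, hwz⟩ := (hP₁ _).mp (hzP₁ hz)
        refine (hP₂ _).mpr ⟨w, inf_le_proj ⟨?_, hw.2⟩, hwz⟩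
        have hwF : w ∈ full T₁ T₂ V := hfull₁ (proj_mono hPV hw)
        obtain ⟨i, hi, hil, -⟩ := hg.symm
        rw [← hil w hwF, hwz]
        exact hT₂.iso_mem hi (hwz ▸ hg.mem hwF) hz.2
      simpa using P₂.mul_mem hzP₂ ((hP₂ _).mpr ⟨b, b.2, rfl⟩)
    obtain ⟨χ, hχ, hχe⟩ := h.exists_pair hz₁ hz₂ hzP₁
      (fun z hz => by
        obtain ⟨w, hw, hwz⟩ := (hP₁ _).mp (hzP₁ hz)
        refine (hP₂ _).mpr ⟨w, inf_le_proj ⟨?_, hw.2⟩, hwz⟩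
        have hwF : w ∈ full T₁ T₂ V := hfull₁ (proj_mono hPV hw)
        obtain ⟨i, hi, hil, -⟩ := hg.symm
        rw [← hil w hwF, hwz]
        exact hT₂.iso_mem hi (hwz ▸ hg.mem hwF) hz.2) hχ₁ hχ₂
    have hP'le : P' ≤ P₁ ⊔ P₂ := fun y hy => by
      obtain ⟨a, b, hab⟩ := decompose_proj hT hP'T ⟨y, hy⟩
      show y ∈ _
      rw [show y = a * b from hab]
      exact Subgroup.mul_mem_sup (hproj₁ a.2) (hproj₂ b.2)
    refine isIso_of_image (h := h') hf (D.restrict_mem hχ hP'le) hP' hQ' fun x hx hm => ?_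
    obtain ⟨a, b, hab⟩ := decompose_proj hT hP ⟨x, hx⟩
    have hga : g a ∈ P₁ := (hP₁ _).mpr ⟨a, a.2, rfl⟩
    have hgb : g b ∈ P₂ := (hP₂ _).mpr ⟨b, b.2, rfl⟩
    have e1 : χ ⟨h' x, hP'le hm⟩ = χ₁ ⟨g a, hga⟩ * χ₂ ⟨g b, hgb⟩ :=
      (congrArg χ (Subtype.ext (hsplit ⟨x, hx⟩ a b hab))).trans (hχe ⟨_, hga⟩ ⟨_, hgb⟩)
    show χ ⟨h' x, _⟩ = _
    rw [e1, hχ₁e, hχ₂e, hf₁e _ a.2, hf₂e _ b.2, ← hge _ (hQV (hf.mem hx)), ← hφe ⟨x, hx⟩,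
      he ⟨x, hx⟩ a b hab, hg.apply_mul (hfull₁ (hr₁ ⟨a, rfl⟩)) (hfull₂ (hr₂ ⟨b, rfl⟩)),
      funOf_apply φ₁ a, funOf_apply φ₂ b]
  -- the extension condition
  obtain ⟨f, hf, hfe⟩ := isIso_of_aut le_rfl hα
  obtain ⟨φ, hφ, -, hφe⟩ := id hf
  obtain ⟨-, φ₁, h₁, φ₂, h₂, he⟩ := (h.hom _ φ).mp hφ
  have hp₁ : proj T₁ T₂ (T₁ ⊔ T₂) = T₁ := le_antisymm inf_le_right (le_inf (le_sup_left.trans le_sup_left) le_rfl)
  have hp₂ : proj T₂ T₁ (T₁ ⊔ T₂) = T₂ := le_antisymm inf_le_right (le_inf (le_sup_right.trans le_sup_left) le_rfl)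
  have hiso : ∀ {A B : Subgroup Ω} {E : FusionSystem A} [Finite A], B = A → ∀ {ψ : B →* Ω}, ψ ∈ E.Hom B →
      E.IsIso A A (funOf ψ) := by
    intro A B E _ hBA ψ hψ
    subst hBA
    have hi := isIso_funOf hψ
    exact SubCent.isIso_self hi le_rfl fun x hx => hi.le_right (hi.mem hx)
  obtain ⟨g₁, hg₁, hg₁e, hg₁T⟩ := top_fix hS hE₁ hT₂ hT hz₁ (hiso hp₁ h₁)
  obtain ⟨g₂, hg₂, hg₂e, hg₂T⟩ := top_fix hS hE₂ hT₁ hT' ((inf_comm T₂ T₁).le.trans hz₂) (hiso hp₂ h₂)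
  let X := T₁ ⊔ T₂ ⊔ centralizerIn S (T₁ ⊔ T₂)
  have hC₁ : centralizerIn S (T₁ ⊔ T₂) ≤ centralizerIn S T₁ :=
    fun c hc => ⟨hc.1, Subgroup.centralizer_le (le_sup_left (b := T₂)) hc.2⟩
  have hC₂ : centralizerIn S (T₁ ⊔ T₂) ≤ centralizerIn S T₂ :=
    fun c hc => ⟨hc.1, Subgroup.centralizer_le (le_sup_right (a := T₁)) hc.2⟩
  have hX₁ : X ≤ T₁ ⊔ centralizerIn S T₁ := _root_.sup_le (_root_.sup_le le_sup_left
    ((le_centralizerIn_of_comm hT₂.1 hT).trans le_sup_right)) (hC₁.trans le_sup_right)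
  have hX₂ : X ≤ T₂ ⊔ centralizerIn S T₂ := _root_.sup_le (_root_.sup_le
    ((le_centralizerIn_of_comm hT₁.1 hT').trans le_sup_right) le_sup_left) (hC₂.trans le_sup_right)
  have haut : ∀ {A : Subgroup Ω} {k : Ω → Ω}, Lift F A k → X ≤ A ⊔ centralizerIn S A →
      F.IsIso X X k ∧ ∀ c ∈ centralizerIn S (T₁ ⊔ T₂), k c ∈ centralizerIn S (T₁ ⊔ T₂) := by
    intro A k hk hle
    have hTimg := image_self hk.iso (le_sup_left.trans hle) fun x hx =>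
      hTc.iso_mem hk.iso (hle (Subgroup.mem_sup_left hx)) hx
    have hCm : ∀ c ∈ centralizerIn S (T₁ ⊔ T₂), k c ∈ centralizerIn S (T₁ ⊔ T₂) := fun c hc =>
      map_centralizer hk.iso (le_sup_left.trans hle) hTimg hc (hle (Subgroup.mem_sup_right hc))
    exact ⟨SubCent.sup_image hk.iso (le_sup_left.trans hle) (le_sup_right.trans hle) hTimg
      (image_self hk.iso (le_sup_right.trans hle) hCm), hCm⟩
  obtain ⟨hk₁, hk₁C⟩ := haut hg₁ hX₁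
  obtain ⟨hk₂, hk₂C⟩ := haut hg₂ hX₂
  obtain ⟨γ, hγ, hγe⟩ := (hk₁.comp hk₂).toAut
  refine ⟨γ, hγ, fun x => ?_, fun c hc => ?_⟩
  · rw [hγe, hfe, ← hφe]
    show g₂ (g₁ (x : Ω)) = _
    obtain ⟨a, b, hab⟩ := decompose_proj hT le_rfl x
    have ha : (a : Ω) ∈ T₁ ⊔ centralizerIn S T₁ := Subgroup.mem_sup_left a.2.2
    have hbm : (b : Ω) ∈ T₁ ⊔ centralizerIn S T₁ :=
      Subgroup.mem_sup_right (le_centralizerIn_of_comm hT₂.1 hT b.2.2)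
    rw [he x a b hab, hab, hg₁.iso.apply_mul ha hbm, hg₁e _ a.2.2, hg₁T _ b.2.2,
      hg₂.iso.apply_mul (Subgroup.mem_sup_right (le_centralizerIn_of_comm hT₁.1 hT'
        (funOf_apply φ₁ a ▸ E₁.apply_mem h₁ a))) (Subgroup.mem_sup_left b.2.2),
      hg₂e _ b.2.2, hg₂T _ (funOf_apply φ₁ a ▸ E₁.apply_mem h₁ a), funOf_apply φ₁ a, funOf_apply φ₂ b]
  · rw [hγe]
    show (c : Ω)⁻¹ * g₂ (g₁ c) ∈ _
    have hd₁ := hg₁.triv' (hC₁ hc)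
    have hd₂ := hg₂.triv' (hC₂ (hk₁C c hc))
    rw [show (c : Ω)⁻¹ * g₂ (g₁ c) = ((c : Ω)⁻¹ * g₁ c) * ((g₁ c)⁻¹ * g₂ (g₁ c)) by group]
    refine ⟨Subgroup.mul_mem_sup hd₁.1 hd₂.1, Subgroup.mul_mem _ ?_ ?_⟩
    · exact ((centralizerIn S (T₁ ⊔ T₂)).mul_mem ((centralizerIn S (T₁ ⊔ T₂)).inv_mem hc) (hk₁C c hc)).2
    · exact ((centralizerIn S (T₁ ⊔ T₂)).mul_mem ((centralizerIn S (T₁ ⊔ T₂)).inv_mem (hk₁C c hc)) (hk₂C _ (hk₁C c hc))).2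

end Cfsg.FusionSystem.Layer
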