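import Cfsg.Agent.Lib.Fusion.Layer.Basics
import Cfsg.Agent.Lib.Basic

/-!
Maps on the product of two commuting strongly closed subgroups extend over the projections of their source.
-/

set_option autoImplicit false
set_option linter.unusedSectionVars false
set_option linter.style.haveILetI false

namespace Cfsg.FusionSystem.Layer

universe u

variable {Ω : Type u} [Group Ω] {S T₁ T₂ P Q R : Subgroup Ω} {F : FusionSystem S} {f : Ω → Ω} {p : ℕ}

/-- The projection to `T₁` of a subgroup of `T₁T₂`. -/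
def proj (T₁ T₂ P : Subgroup Ω) : Subgroup Ω := (P ⊔ T₂) ⊓ T₁

theorem proj_mono (h : P ≤ Q) : proj T₁ T₂ P ≤ proj T₁ T₂ Q := inf_le_inf_right _ (sup_le_sup_right h _)

theorem inf_le_proj : T₁ ⊓ T₂ ≤ proj T₁ T₂ P := le_inf (inf_le_right.trans le_sup_right) inf_le_left

theorem self_le_proj (h : P ≤ T₁) : P ≤ proj T₁ T₂ P := le_inf le_sup_left h

theorem proj_idem : proj T₁ T₂ (proj T₁ T₂ P) = proj T₁ T₂ P :=
  le_antisymm (inf_le_inf_right _ (sup_le inf_le_left le_sup_right)) (self_le_proj inf_le_right)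

theorem mem_proj (hP : P ≤ Subgroup.normalizer (T₂ : Set Ω)) {a : Ω} :
    a ∈ proj T₁ T₂ P ↔ a ∈ T₁ ∧ ∃ x ∈ P, ∃ b ∈ T₂, a = x * b := by
  rw [proj, Subgroup.mem_inf, ← SetLike.mem_coe, Subgroup.coe_mul_of_left_le_normalizer_right P T₂ hP]
  constructor
  · rintro ⟨⟨x, hx, b, hb, rfl⟩, ha⟩
    exact ⟨ha, x, hx, b, hb, rfl⟩
  · rintro ⟨ha, x, hx, b, hb, rfl⟩
    exact ⟨⟨x, hx, b, hb, rfl⟩, ha⟩

theorem decompose (hT₁ : T₁ ≤ Subgroup.normalizer (T₂ : Set Ω)) {x : Ω} (hx : x ∈ T₁ ⊔ T₂) :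
    ∃ a ∈ T₁, ∃ b ∈ T₂, x = a * b := by
  rw [← SetLike.mem_coe, Subgroup.coe_mul_of_left_le_normalizer_right T₁ T₂ hT₁] at hx
  obtain ⟨a, ha, b, hb, rfl⟩ := hx
  exact ⟨a, ha, b, hb, rfl⟩

/-- The components of an element lie in the projections. -/
theorem mem_proj_of_eq {x a b : Ω} (hx : x ∈ P) (ha : a ∈ T₁) (hb : b ∈ T₂) (he : x = a * b) :
    a ∈ proj T₁ T₂ P := by
  refine ⟨?_, ha⟩
  rw [show a = x * b⁻¹ by rw [he, mul_inv_cancel_right]]
  exact mul_mem (Subgroup.mem_sup_left hx) (Subgroup.mem_sup_right (T₂.inv_mem hb))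

/-- The source extended by the projection of its part in the product. -/
def full (T₁ T₂ P : Subgroup Ω) : Subgroup Ω := P ⊔ proj T₁ T₂ (P ⊓ (T₁ ⊔ T₂))

variable [Finite S] [Fact p.Prime]

theorem proj_le (hT₁ : F.StronglyClosed T₁) : proj T₁ T₂ P ≤ S := inf_le_right.trans hT₁.1

/-- The projection of the source lies in a centric radical subgroup. -/
theorem proj_le_radical (hS : IsPGroup p S) (hT₁ : F.StronglyClosed T₁) (hT₂ : F.StronglyClosed T₂)
    (hc : ∀ a ∈ T₁, ∀ b ∈ T₂, a * b = b * a) (hR : F.IsCentric R) (hr : F.IsRadical p R) :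
    proj T₁ T₂ (R ⊓ (T₁ ⊔ T₂)) ≤ R := by
  classical
  have hRS := hR.1
  haveI := finite_of_le hRS
  haveI := finite_autGroup (F := F) hRS
  set A := proj T₁ T₂ (R ⊓ (T₁ ⊔ T₂))
  by_contra hA
  have hAS : A ≤ S := proj_le hT₁
  have hRn : ∀ r ∈ R, ∀ a ∈ A, r * a * r⁻¹ ∈ A := by
    intro r hr a ha
    obtain ⟨ha1, x, ⟨hxR, hxT⟩, b, hb, rfl⟩ := (mem_proj (inf_le_left.trans (hRS.trans hT₂.le_normalizer))).mp ha
    obtain ⟨a', ha', b', hb', rfl⟩ := decompose (hT₁.1.trans hT₂.le_normalizer) hxT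
    refine (mem_proj (inf_le_left.trans (hRS.trans hT₂.le_normalizer))).mpr
      ⟨hT₁.conj_mem_of_mem (hRS hr) ha1, r * (a' * b') * r⁻¹, ⟨R.mul_mem (R.mul_mem hr hxR) (R.inv_mem hr), ?_⟩,
        r * b * r⁻¹, hT₂.conj_mem_of_mem (hRS hr) hb, by group⟩
    rw [show r * (a' * b') * r⁻¹ = (r * a' * r⁻¹) * (r * b' * r⁻¹) by group]
    exact Subgroup.mul_mem_sup (hT₁.conj_mem_of_mem (hRS hr) ha') (hT₂.conj_mem_of_mem (hRS hr) hb')
  have hRA : R ≤ Subgroup.normalizer (A : Set Ω) := fun r hr => by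
    rw [Subgroup.mem_normalizer_iff]
    refine fun a => ⟨hRn r hr a, fun ha => ?_⟩
    simpa [mul_assoc] using hRn r⁻¹ (R.inv_mem hr) _ ha
  have hlt : R < R ⊔ A := lt_of_le_of_ne le_sup_left fun e => hA (le_sup_right.trans e.ge)
  haveI := finite_of_le (sup_le hRS hAS)
  obtain ⟨w, hw, hwR⟩ := SetLike.exists_of_lt (lt_normalizerIn (hS.to_le (sup_le hRS hAS)) hlt)
  have hw1 : w ∈ (↑(R ⊔ A) : Set Ω) := hw.1
  rw [Subgroup.coe_mul_of_left_le_normalizer_right R A hRA] at hw1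
  obtain ⟨r, hr0, n, hn, rfl⟩ := hw1
  replace hn : n ∈ A := hn
  have hnR : n ∉ R := fun h => hwR (R.mul_mem hr0 h)
  have hnN : n ∈ Subgroup.normalizer (R : Set Ω) := by
    have := Subgroup.mul_mem _ (Subgroup.inv_mem _
      (Subgroup.le_normalizer hr0 : r ∈ Subgroup.normalizer (R : Set Ω))) hw.2
    simpa [mul_assoc] using this
  obtain ⟨hn1, x, ⟨hxR, -⟩, b, hb, hnx⟩ :=
    (mem_proj (inf_le_left.trans (hRS.trans hT₂.le_normalizer))).mp hn
  -- automorphisms trivial modulo `T₁` and inner on `R ∩ T₁`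
  have hpres : ∀ (g : F.autGroup R) (y : R), (y : Ω) ∈ T₁ → (((g : MulAut R) y : R) : Ω) ∈ T₁ := by
    intro g y hy
    obtain ⟨φ, hφ, -, he⟩ := F.exists_map_of_mem_autGroup hRS g.2
    rw [← he]
    exact hT₁.apply_mem_of_mem hφ hy
  let K : Subgroup (F.autGroup R) :=
    { carrier := {γ | (∀ y : R, (y : Ω)⁻¹ * ((γ : MulAut R) y : R) ∈ T₁) ∧
        ∃ r : R, ∀ y : R, (y : Ω) ∈ T₁ → (γ : MulAut R) y = r * y * r⁻¹}
      one_mem' := ⟨fun y => by simp, 1, fun y _ => by simp⟩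
      mul_mem' := by
        rintro a c ⟨ha, ra, hra⟩ ⟨hc, rc, hrc⟩
        refine ⟨fun y => ?_, ra * rc, fun y hy => ?_⟩
        · simpa [MulAut.mul_apply, mul_assoc] using T₁.mul_mem (hc y) (ha ((c : MulAut R) y))
        · show (a : MulAut R) ((c : MulAut R) y) = _
          rw [hra _ (hpres c y hy), hrc y hy]
          group
      inv_mem' := by
        rintro a ⟨ha, ra, hra⟩
        refine ⟨fun y => ?_, ra⁻¹, fun y hy => ?_⟩
        · simpa [mul_assoc] using T₁.inv_mem (ha ((a : MulAut R)⁻¹ y))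
        · show (a : MulAut R)⁻¹ y = _
          have hy' : ((ra⁻¹ * y * ra : R) : Ω) ∈ T₁ := by
            simpa using hT₁.conj_mem_of_mem' (hRS ra.2) hy
          apply (a : MulAut R).injective
          rw [MulAut.apply_inv_self, inv_inv, hra _ hy']
          group }
  haveI : K.Normal := by
    refine ⟨fun a ha g => ⟨fun y => ?_, (g : MulAut R) ha.2.choose, fun y hy => ?_⟩⟩
    · have h := ha.1 ((g : MulAut R)⁻¹ y)
      have h2 := hpres g ((((g : MulAut R)⁻¹ y))⁻¹ * (a : MulAut R) ((g : MulAut R)⁻¹ y)) (by simpa using h)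
      simpa [MulAut.mul_apply] using h2
    · have h := ha.2.choose_spec ((g : MulAut R)⁻¹ y) (hpres g⁻¹ y hy)
      show (g : MulAut R) ((a : MulAut R) ((g : MulAut R)⁻¹ y)) = _
      rw [h]
      simp
  have hKp : IsPGroup p K := by
    rintro ⟨γ, hγ⟩
    obtain ⟨e, he⟩ := SubCent.prime_part (p := p) γ
    refine ⟨e, Subtype.ext ?_⟩
    set h := γ ^ p ^ e
    obtain ⟨hh1, rh, hrh⟩ := (K.pow_mem hγ _ : h ∈ K)
    have hpow : ∀ (i : ℕ) (y : R), (y : Ω) ∈ T₁ → ((h : MulAut R) ^ i) y = rh ^ i * y * (rh ^ i)⁻¹ := by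
      intro i
      induction i with
      | zero => simp
      | succ i ih =>
        intro y hy
        have hy' : ((rh ^ i * y * (rh ^ i)⁻¹ : R) : Ω) ∈ T₁ := by
          simpa using hT₁.conj_mem_of_mem (hRS (rh ^ i).2) hy
        rw [pow_succ', MulAut.mul_apply, ih y hy, hrh _ hy', pow_succ']
        group
    obtain ⟨k, hk⟩ := (hS.to_le hRS) rh
    have hfix : ∀ y : R, (y : Ω) ∈ T₁ → (h : MulAut R) y = y := by
      intro y hy
      have hco : ((orderOf h).Coprime (p ^ k)) :=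
        ((Nat.Prime.coprime_iff_not_dvd (Fact.out : p.Prime)).mpr he).symm.pow_right k
      obtain ⟨N, hN1, hN0⟩ := Nat.chineseRemainder hco 1 0
      have e1 : (h : MulAut R) ^ N = h := by
        rw [← SubgroupClass.coe_pow, (pow_eq_pow_iff_modEq.mpr hN1).trans (pow_one h)]
      have e2 : rh ^ N = 1 := by
        obtain ⟨j, hj⟩ := Nat.modEq_zero_iff_dvd.mp hN0
        rw [hj, pow_mul, hk, one_pow]
      rw [← e1, hpow N y hy, e2]
      group
    have h1 : (h : MulAut R) = 1 := by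
      refine mulAut_eq_one_of_stabilises (hS.to_le hRS) ![⊥, T₁.subgroupOf R, ⊤] rfl rfl ?_ fun i y hy => ?_
      · rw [Subgroup.orderOf_coe]
        exact ((Nat.Prime.coprime_iff_not_dvd (Fact.out : p.Prime)).mpr he).symm
      · fin_cases i
        · have hy' : (y : Ω) ∈ T₁ := hy
          show y⁻¹ * (h : MulAut R) y ∈ (⊥ : Subgroup R)
          rw [hfix y hy', inv_mul_cancel]
          exact Subgroup.one_mem _
        · show (((y⁻¹ * (h : MulAut R) y : R)) : Ω) ∈ T₁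
          simpa [h] using hh1 y
    exact Subtype.ext h1
  let c : F.autGroup R := ⟨R.normalizerMonoidHom ⟨n, hnN⟩,
    autInducedBy_le_autGroup hRS (mem_autInducedBy_iff.mpr ⟨n, hAS hn, hnN, fun _ => rfl⟩)⟩
  have hcK : c ∈ K := by
    refine ⟨fun y => ?_, ⟨x, hxR⟩, fun y hy => Subtype.ext ?_⟩
    · show (y : Ω)⁻¹ * (n * y * n⁻¹) ∈ T₁
      rw [show (y : Ω)⁻¹ * (n * y * n⁻¹) = ((y : Ω)⁻¹ * n * y) * n⁻¹ by group]
      exact T₁.mul_mem (hT₁.conj_mem_of_mem' (hRS y.2) hn1) (T₁.inv_mem hn1)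
    · show n * (y : Ω) * n⁻¹ = x * y * x⁻¹
      rw [hnx, mul_inv_rev, show x * b * (y : Ω) = x * (b * y) by group, ← hc y hy b hb]
      group
  have hInn : (c : MulAut R) ∈ Inn R := hr.2.le ⟨c, CfsgLib.le_pCore hKp hcK, rfl⟩
  rw [inn_eq_autInducedBy] at hInn
  obtain ⟨r', hr', -, hr'e⟩ := mem_autInducedBy_iff.mp hInn
  refine hnR ?_
  have hcen : r'⁻¹ * n ∈ centralizerIn S R := by
    refine ⟨S.mul_mem (S.inv_mem (hRS hr')) (hAS hn), Subgroup.mem_centralizer_iff.mpr fun y hy => ?_⟩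
    have h1 : n * y * n⁻¹ = r' * y * r'⁻¹ := hr'e ⟨y, hy⟩
    calc y * (r'⁻¹ * n) = r'⁻¹ * (r' * y * r'⁻¹) * n := by group
      _ = r'⁻¹ * (n * y * n⁻¹) * n := by rw [h1]
      _ = r'⁻¹ * n * y := by group
  simpa using R.mul_mem hr' (hR.centralizerIn_le_self hcen)

/-- The maps extending over the projection of their source. -/
def projSystem (hF : F.IsSaturated p) (hS : IsPGroup p S) (hT₁ : F.StronglyClosed T₁)
    (hT₂ : F.StronglyClosed T₂) : FusionSystem S where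
  Hom P := {φ | φ ∈ F.Hom P ∧ ∃ ψ ∈ F.Hom (full T₁ T₂ P), ∀ x : P, ψ (Subgroup.inclusion le_sup_left x) = φ x}
  le_of_mem h := F.le_of_mem h.1
  injective_of_mem h := F.injective_of_mem h.1
  conj_mem := fun {P g} hP hg => ⟨F.conj_mem hP hg, _, F.conj_mem (sup_le hP (proj_le hT₁)) hg, fun _ => rfl⟩
  comp_mem := by
    rintro P Q φ ψ ⟨hφ, φ', hφ', hφe⟩ ⟨hψ, ψ', hψ', hψe⟩ h
    have hT := hT₁.sup hF hS hT₂
    have hi := isIso_funOf hφ'
    have he : ∀ y : P, funOf φ' y = φ y := fun y =>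
      (funOf_apply φ' (Subgroup.inclusion le_sup_left y)).symm.trans (hφe y)
    have hQn : Q ⊓ (T₁ ⊔ T₂) ≤ Subgroup.normalizer (T₂ : Set Ω) :=
      inf_le_left.trans ((F.source_le hψ).trans hT₂.le_normalizer)
    have hmem : ∀ a ∈ proj T₁ T₂ (P ⊓ (T₁ ⊔ T₂)), funOf φ' a ∈ proj T₁ T₂ (Q ⊓ (T₁ ⊔ T₂)) := by
      intro a ha
      have haF : a ∈ full T₁ T₂ P := Subgroup.mem_sup_right ha
      obtain ⟨ha1, x, hx, b, hb, hab⟩ := (mem_proj (inf_le_left.trans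
        ((F.source_le hφ).trans hT₂.le_normalizer))).mp ha
      have hxF : x ∈ full T₁ T₂ P := Subgroup.mem_sup_left hx.1
      have hbF : b ∈ full T₁ T₂ P := by
        rw [show b = x⁻¹ * a by rw [hab, inv_mul_cancel_left]]
        exact Subgroup.mul_mem _ (Subgroup.inv_mem _ hxF) haF
      refine (mem_proj hQn).mpr ⟨hT₁.iso_mem hi haF ha1, φ ⟨x, hx.1⟩, ⟨h _, ?_⟩, funOf φ' b,
        hT₂.iso_mem hi hbF hb, ?_⟩
      · exact hT.apply_mem_of_mem hφ hx.2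
      · rw [← he ⟨x, hx.1⟩, ← hi.apply_mul hxF hbF, hab]
    have hle : ∀ y, φ' y ∈ full T₁ T₂ Q := by
      intro y
      have hsub : full T₁ T₂ P ≤ ((full T₁ T₂ Q).comap φ').map (full T₁ T₂ P).subtype := by
        refine sup_le (fun z hz => ⟨⟨z, Subgroup.mem_sup_left hz⟩, ?_, rfl⟩)
          fun z hz => ⟨⟨z, Subgroup.mem_sup_right hz⟩, ?_, rfl⟩
        · rw [SetLike.mem_coe, Subgroup.mem_comap]
          exact Subgroup.mem_sup_left ((hφe ⟨z, hz⟩).symm ▸ h ⟨z, hz⟩)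
        · rw [SetLike.mem_coe, Subgroup.mem_comap]
          exact (funOf_apply φ' ⟨z, Subgroup.mem_sup_right hz⟩).symm ▸ Subgroup.mem_sup_right (hmem z hz)
      obtain ⟨z, hz, hzy⟩ := hsub y.2
      rw [show y = z from Subtype.ext hzy.symm]
      exact hz
    refine ⟨F.comp_mem hφ hψ h, _, F.comp_mem hφ' hψ' hle, fun x => ?_⟩
    show ψ' ⟨φ' _, _⟩ = ψ ⟨φ x, h x⟩
    rw [← hψe ⟨φ x, h x⟩]
    exact congrArg ψ' (Subtype.ext (hφe x))
  inv_mem := by
    rintro P φ ⟨hφ, φ', hφ', hφe⟩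
    obtain ⟨i, hi, hir, hil, hirr⟩ := F.exists_inv hφ rfl
    obtain ⟨j, hj, -, hjl, -⟩ := F.exists_inv hφ' rfl
    have hT := hT₁.sup hF hS hT₂
    have hI := isIso_funOf hφ'
    have hle : full T₁ T₂ φ.range ≤ φ'.range := by
      refine sup_le ?_ fun a ha => ?_
      · rintro _ ⟨x, rfl⟩
        exact ⟨_, hφe x⟩
      obtain ⟨ha1, y, hy, b, hb, hab⟩ := (mem_proj (inf_le_left.trans
        ((F.range_le hφ).trans hT₂.le_normalizer))).mp ha
      obtain ⟨x, hxy⟩ := hy.1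
      have hxT : (x : Ω) ∈ T₁ ⊔ T₂ := by
        have h1 := hT.apply_mem_of_mem hi (x := (⟨φ x, x, rfl⟩ : φ.range)) (show φ x ∈ T₁ ⊔ T₂ from hxy.symm ▸ hy.2)
        erw [hil x ⟨x, rfl⟩] at h1
        exact h1
      obtain ⟨a', ha', b', hb', hxab⟩ := decompose (hT₁.1.trans hT₂.le_normalizer) hxT
      have ha'p : a' ∈ full T₁ T₂ P :=
        Subgroup.mem_sup_right (mem_proj_of_eq ⟨x.2, hxT⟩ ha' hb' hxab)
      have hxF : (x : Ω) ∈ full T₁ T₂ P := Subgroup.mem_sup_left x.2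
      have hb'p : b' ∈ full T₁ T₂ P := by
        rw [show b' = a'⁻¹ * x by rw [hxab, inv_mul_cancel_left]]
        exact Subgroup.mul_mem _ (Subgroup.inv_mem _ ha'p) hxF
      have hy' : y = funOf φ' a' * funOf φ' b' := by
        rw [← hI.apply_mul ha'p hb'p, ← hxab, ← hxy, ← hφe x]
        exact funOf_apply φ' _
      set d := (funOf φ' a')⁻¹ * a with hd
      have hd1 : d ∈ T₁ := T₁.mul_mem (T₁.inv_mem (hT₁.iso_mem hI ha'p ha')) ha1
      have hd2 : d ∈ T₂ := by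
        rw [hd, hab, hy', mul_assoc, inv_mul_cancel_left]
        exact T₂.mul_mem (hT₂.iso_mem hI hb'p hb') hb
      have hZ : F.StronglyClosed (T₁ ⊓ T₂) := ⟨inf_le_left.trans hT₁.1, fun R hR ψ hψ z =>
        ⟨hT₁.2 R (hR.trans inf_le_left) ψ hψ z, hT₂.2 R (hR.trans inf_le_right) ψ hψ z⟩⟩
      obtain ⟨z, -, hz⟩ := (hZ.map_eq hφ' (inf_le_proj.trans le_sup_right)).ge ⟨hd1, hd2⟩
      rw [show a = funOf φ' a' * d by rw [hd, mul_inv_cancel_left]]
      exact φ'.range.mul_mem ⟨⟨a', ha'p⟩, funOf_apply φ' _⟩ ⟨z, hz⟩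
    refine ⟨i, ⟨hi, _, F.restrict_mem hj hle, ?_⟩, fun x => hil x ⟨x, rfl⟩⟩
    rintro ⟨_, x, rfl⟩
    rw [hil x ⟨x, rfl⟩]
    show j ⟨φ x, _⟩ = _
    have hm : φ' (Subgroup.inclusion le_sup_left x) ∈ φ'.range := ⟨_, rfl⟩
    exact (congrArg j (Subtype.ext (hφe x).symm)).trans (hjl _ hm)

/-- Every map extends over the projection of its source. -/
theorem exists_full_extension (hS : IsPGroup p S) (hF : F.IsSaturated p) (hT₁ : F.StronglyClosed T₁)
    (hT₂ : F.StronglyClosed T₂) (hc : ∀ a ∈ T₁, ∀ b ∈ T₂, a * b = b * a) (hf : F.IsIso P Q f) :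
    ∃ g R, F.IsIso (full T₁ T₂ P) R g ∧ ∀ x ∈ P, g x = f x := by
  have hle : F ≤ projSystem hF hS hT₁ hT₂ := hF.le_of_autGroup_le' hS _ fun R hR _ => by
    have hfull : proj T₁ T₂ (R ⊓ (T₁ ⊔ T₂)) ≤ R := by
      rcases hR with rfl | hR
      · exact proj_le hT₁
      · exact proj_le_radical hS hT₁ hT₂ hc hR.1 (hR.isRadical hS hF)
    have hRS : R ≤ S := by
      rcases hR with rfl | hR
      exacts [le_rfl, hR.1.1]
    intro α hα
    obtain ⟨φ, hφ, -, he⟩ := F.exists_map_of_mem_autGroup hRS hα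
    exact (projSystem hF hS hT₁ hT₂).mem_autGroup_of_map
      ⟨hφ, _, F.restrict_mem hφ (sup_le le_rfl hfull), fun x => rfl⟩ fun x => (he x).symm
  obtain ⟨φ, hφ, -, hφe⟩ := hf
  obtain ⟨-, ψ, hψ, hψe⟩ := hle P hφ
  exact ⟨funOf ψ, ψ.range, isIso_funOf hψ, fun x hx => by
    rw [← funOf_apply ψ ⟨x, Subgroup.mem_sup_left hx⟩, ← hφe ⟨x, hx⟩, ← hψe ⟨x, hx⟩]
    rfl⟩

end Cfsg.FusionSystem.Layer
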